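import Cfsg.Agent.Spor.HNL.D0

set_option autoImplicit false
set_option maxRecDepth 100000000
set_option Elab.async false

namespace Cfsg.Agent.Spor.HNL

theorem pr2 : Nat.beq (PA.prod HNV.A [HNV.gy, HNV.ix, HNV.iy, HNV.gx, HNV.iy, HNV.gx, HNV.gy, HNV.gx, HNV.gy, HNV.gy, HNV.gy, HNV.gx, HNV.gy, HNV.gy, HNV.gx, HNV.iy, HNV.ix, HNV.gy, HNV.ix, HNV.gy] HNV.A.one) m1 = true := by decide +kernel

theorem pr5 : Nat.beq (PA.prod HNV.A [HNV.gz, HNV.it, HNV.gz] HNV.A.one) m4 = true := by decide +kernel

theorem iv8 : band (PA.can HNV.A m7) (Nat.beq (PA.mul HNV.A m4 m7) HNV.A.one) = true := by decide +kernel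

theorem pr11 : Nat.beq (PA.prod HNV.A [m1, m7, m1, m4] HNV.A.one) m10 = true := by decide +kernel

theorem pr14 : Nat.beq (PA.prod HNV.A [m4, m10] HNV.A.one) m13 = true := by decide +kernel

theorem pr17 : Nat.beq (PA.prod HNV.A [HNV.gy, HNV.gz, HNV.gy, HNV.ix, HNV.gy, HNV.gy, HNV.gx, HNV.gy, HNV.gy, HNV.gz, HNV.gy, HNV.gz, HNV.iy, HNV.iy, HNV.ix, HNV.gy, HNV.gy, HNV.ix, HNV.gy, HNV.ix, HNV.gz] HNV.A.one) m16 = true := by decide +kernel

theorem pr20 : Nat.beq (PA.prod HNV.A [HNV.gz, HNV.gy, HNV.gy, HNV.gx, HNV.iy, HNV.gz, HNV.iy, HNV.gz, HNV.gx, HNV.iy, HNV.gz, HNV.gy, HNV.gy, HNV.gy, HNV.gx, HNV.gy, HNV.ix, HNV.iy, HNV.ix, HNV.iy, HNV.ix] HNV.A.one) m19 = true := by decide +kernel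

theorem pr23 : Nat.beq (PA.prod HNV.A [HNV.iy, HNV.iy, HNV.gz, HNV.gx, HNV.gy, HNV.gx, HNV.gy, HNV.gy, HNV.gz, HNV.gy, HNV.gz, HNV.gx, HNV.gy, HNV.gy, HNV.gx, HNV.gz, HNV.gy] HNV.A.one) m22 = true := by decide +kernel

theorem pr26 : Nat.beq (PA.prod HNV.A [HNV.iy, HNV.ix, HNV.gy, HNV.gy, HNV.gz, HNV.gy, HNV.gz, HNV.iy, HNV.gz, HNV.gx, HNV.iy, HNV.iy, HNV.gx, HNV.iy, HNV.ix, HNV.gy, HNV.gy, HNV.ix, HNV.iy, HNV.ix, HNV.iy, HNV.iy, HNV.iy] HNV.A.one) m25 = true := by decide +kernel

theorem iv29 : band (PA.can HNV.A m28) (Nat.beq (PA.mul HNV.A m13 m28) HNV.A.one) = true := by decide +kernel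

theorem pr32 : Nat.beq (PA.prod HNV.A [m25, m28, m19, m25, m13, m19] HNV.A.one) m31 = true := by decide +kernel

theorem iv35 : band (PA.can HNV.A m34) (Nat.beq (PA.mul HNV.A m25 m34) HNV.A.one) = true := by decide +kernel

theorem pr38 : Nat.beq (PA.prod HNV.A [m16, m28, m16, m13, m16, m19, m34, m19] HNV.A.one) m37 = true := by decide +kernel

theorem iv41 : band (PA.can HNV.A m40) (Nat.beq (PA.mul HNV.A m22 m40) HNV.A.one) = true := by decide +kernel

theorem pr44 : Nat.beq (PA.prod HNV.A [m19, m13, m16, m34, m13, m40, m34, m40] HNV.A.one) m43 = true := by decide +kernel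

theorem iv47 : band (PA.can HNV.A m46) (Nat.beq (PA.mul HNV.A m19 m46) HNV.A.one) = true := by decide +kernel

theorem iv50 : band (PA.can HNV.A m49) (Nat.beq (PA.mul HNV.A m16 m49) HNV.A.one) = true := by decide +kernel

theorem pr53 : Nat.beq (PA.prod HNV.A [m46, m22, m46, m28, m16, m46, m49, m19] HNV.A.one) m52 = true := by decide +kernel

theorem pr56 : Nat.beq (PA.prod HNV.A [m31, m43, m43, m31, m43, m43] HNV.A.one) m55 = true := by decide +kernel

theorem iv59 : band (PA.can HNV.A m58) (Nat.beq (PA.mul HNV.A m43 m58) HNV.A.one) = true := by decide +kernel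

theorem iv62 : band (PA.can HNV.A m61) (Nat.beq (PA.mul HNV.A m37 m61) HNV.A.one) = true := by decide +kernel

theorem pr65 : Nat.beq (PA.prod HNV.A [m37, m37, m58, m61, m61, m43] HNV.A.one) m64 = true := by decide +kernel

theorem pr68 : Nat.beq (PA.prod HNV.A [m52, m52] HNV.A.one) m67 = true := by decide +kernel

theorem iv71 : band (PA.can HNV.A m70) (Nat.beq (PA.mul HNV.A m31 m70) HNV.A.one) = true := by decide +kernel

theorem pr74 : Nat.beq (PA.prod HNV.A [m31, m43, m52, m70, m43, m52] HNV.A.one) m73 = true := by decide +kernel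

theorem iv77 : band (PA.can HNV.A m76) (Nat.beq (PA.mul HNV.A m52 m76) HNV.A.one) = true := by decide +kernel

theorem pr80 : Nat.beq (PA.prod HNV.A [m31, m52, m31, m76] HNV.A.one) m79 = true := by decide +kernel

theorem pr83 : Nat.beq (PA.prod HNV.A [m43, m52, m43, m52] HNV.A.one) m82 = true := by decide +kernel

theorem pr86 : Nat.beq (PA.prod HNV.A [m43, m76, m43] HNV.A.one) m85 = true := by decide +kernel

theorem pr89 : Nat.beq (PA.prod HNV.A [m70, m52, m52] HNV.A.one) m88 = true := by decide +kernel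

theorem pr92 : Nat.beq (PA.prod HNV.A [m61, m61] HNV.A.one) m91 = true := by decide +kernel

theorem pr95 : Nat.beq (PA.prod HNV.A [m37, m52, m61] HNV.A.one) m94 = true := by decide +kernel

theorem pr98 : Nat.beq (PA.prod HNV.A [m43, m43] HNV.A.one) m97 = true := by decide +kernel

theorem T2ok : PA.gensOk HNV.A T2 14 = true := by decide +kernel

theorem pp103 : PA.pcP HNV.A T2 0 2 [] = true := by decide +kernel

theorem pb105 : PA.pcB' HNV.A T2 m104 HNV.A_one 0 = true := by decide +kernel

theorem pc106 : PA.pcC HNV.A T2 1 0 [0] = true := by decide +kernel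

theorem pp107 : PA.pcP HNV.A T2 1 2 [0] = true := by decide +kernel

theorem pb109 : PA.pcB' HNV.A T2 m108 HNV.A_one 1 = true := by decide +kernel

theorem pb110 : PA.pcB HNV.A T2 m108 HNV.A_one 0 = true := by decide +kernel

theorem pc111 : PA.pcC HNV.A T2 2 0 [0] = true := by decide +kernel

theorem pc112 : PA.pcC HNV.A T2 2 1 [0, 2] = true := by decide +kernel

theorem pp113 : PA.pcP HNV.A T2 2 2 [] = true := by decide +kernel

theorem pb115 : PA.pcB' HNV.A T2 m114 HNV.A_one 2 = true := by decide +kernel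

theorem pb116 : PA.pcB HNV.A T2 m114 HNV.A_one 0 = true := by decide +kernel

theorem pb117 : PA.pcB HNV.A T2 m114 HNV.A_one 1 = true := by decide +kernel

theorem pc118 : PA.pcC HNV.A T2 3 0 [0] = true := by decide +kernel

theorem pc119 : PA.pcC HNV.A T2 3 1 [2] = true := by decide +kernel

theorem pc120 : PA.pcC HNV.A T2 3 2 [4] = true := by decide +kernel

theorem pp121 : PA.pcP HNV.A T2 3 2 [] = true := by decide +kernel

theorem pb123 : PA.pcB' HNV.A T2 m122 HNV.A_one 3 = true := by decide +kernel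

theorem pb124 : PA.pcB HNV.A T2 m122 HNV.A_one 0 = true := by decide +kernel

theorem pb125 : PA.pcB HNV.A T2 m122 HNV.A_one 1 = true := by decide +kernel

theorem pb126 : PA.pcB HNV.A T2 m122 HNV.A_one 2 = true := by decide +kernel

theorem pc127 : PA.pcC HNV.A T2 4 0 [0] = true := by decide +kernel

theorem pc128 : PA.pcC HNV.A T2 4 1 [2] = true := by decide +kernel

theorem pc129 : PA.pcC HNV.A T2 4 2 [4] = true := by decide +kernel

theorem pc130 : PA.pcC HNV.A T2 4 3 [6] = true := by decide +kernel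

theorem pp131 : PA.pcP HNV.A T2 4 2 [] = true := by decide +kernel

theorem pb133 : PA.pcB' HNV.A T2 m132 HNV.A_one 4 = true := by decide +kernel

theorem pb134 : PA.pcB HNV.A T2 m132 HNV.A_one 0 = true := by decide +kernel

theorem pb135 : PA.pcB HNV.A T2 m132 HNV.A_one 1 = true := by decide +kernel

theorem pb136 : PA.pcB HNV.A T2 m132 HNV.A_one 2 = true := by decide +kernel

theorem pb137 : PA.pcB HNV.A T2 m132 HNV.A_one 3 = true := by decide +kernel

theorem pc138 : PA.pcC HNV.A T2 5 0 [0] = true := by decide +kernel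

theorem pc139 : PA.pcC HNV.A T2 5 1 [0, 2] = true := by decide +kernel

theorem pc140 : PA.pcC HNV.A T2 5 2 [4] = true := by decide +kernel

theorem pc141 : PA.pcC HNV.A T2 5 3 [6] = true := by decide +kernel

theorem pc142 : PA.pcC HNV.A T2 5 4 [8] = true := by decide +kernel

theorem pp143 : PA.pcP HNV.A T2 5 2 [] = true := by decide +kernel

theorem pb145 : PA.pcB' HNV.A T2 m144 HNV.A_one 5 = true := by decide +kernel

theorem pb146 : PA.pcB HNV.A T2 m144 HNV.A_one 0 = true := by decide +kernel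

theorem pb147 : PA.pcB HNV.A T2 m144 HNV.A_one 1 = true := by decide +kernel

theorem pb148 : PA.pcB HNV.A T2 m144 HNV.A_one 2 = true := by decide +kernel

theorem pb149 : PA.pcB HNV.A T2 m144 HNV.A_one 3 = true := by decide +kernel

theorem pb150 : PA.pcB HNV.A T2 m144 HNV.A_one 4 = true := by decide +kernel

theorem pc151 : PA.pcC HNV.A T2 6 0 [0] = true := by decide +kernel

theorem pc152 : PA.pcC HNV.A T2 6 1 [2] = true := by decide +kernel

theorem pc153 : PA.pcC HNV.A T2 6 2 [4] = true := by decide +kernel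

theorem pc154 : PA.pcC HNV.A T2 6 3 [6] = true := by decide +kernel

theorem pc155 : PA.pcC HNV.A T2 6 4 [8] = true := by decide +kernel

theorem pc156 : PA.pcC HNV.A T2 6 5 [0, 10] = true := by decide +kernel

theorem pp157 : PA.pcP HNV.A T2 6 2 [] = true := by decide +kernel

theorem pb159 : PA.pcB' HNV.A T2 m158 HNV.A_one 6 = true := by decide +kernel

theorem pb160 : PA.pcB HNV.A T2 m158 HNV.A_one 0 = true := by decide +kernel

theorem pb161 : PA.pcB HNV.A T2 m158 HNV.A_one 1 = true := by decide +kernel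

theorem pb162 : PA.pcB HNV.A T2 m158 HNV.A_one 2 = true := by decide +kernel

theorem pb163 : PA.pcB HNV.A T2 m158 HNV.A_one 3 = true := by decide +kernel

theorem pb164 : PA.pcB HNV.A T2 m158 HNV.A_one 4 = true := by decide +kernel

theorem pb165 : PA.pcB HNV.A T2 m158 HNV.A_one 5 = true := by decide +kernel

theorem pc166 : PA.pcC HNV.A T2 7 0 [0] = true := by decide +kernel

theorem pc167 : PA.pcC HNV.A T2 7 1 [2, 8] = true := by decide +kernel

theorem pc168 : PA.pcC HNV.A T2 7 2 [4] = true := by decide +kernel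

theorem pc169 : PA.pcC HNV.A T2 7 3 [6] = true := by decide +kernel

theorem pc170 : PA.pcC HNV.A T2 7 4 [8] = true := by decide +kernel

theorem pc171 : PA.pcC HNV.A T2 7 5 [10] = true := by decide +kernel

theorem pc172 : PA.pcC HNV.A T2 7 6 [6, 12] = true := by decide +kernel

theorem pp173 : PA.pcP HNV.A T2 7 2 [] = true := by decide +kernel

theorem pb175 : PA.pcB' HNV.A T2 m174 HNV.A_one 7 = true := by decide +kernel

theorem pb176 : PA.pcB HNV.A T2 m174 HNV.A_one 0 = true := by decide +kernel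

theorem pb177 : PA.pcB HNV.A T2 m174 HNV.A_one 1 = true := by decide +kernel

theorem pb178 : PA.pcB HNV.A T2 m174 HNV.A_one 2 = true := by decide +kernel

theorem pb179 : PA.pcB HNV.A T2 m174 HNV.A_one 3 = true := by decide +kernel

theorem pb180 : PA.pcB HNV.A T2 m174 HNV.A_one 4 = true := by decide +kernel

theorem pb181 : PA.pcB HNV.A T2 m174 HNV.A_one 5 = true := by decide +kernel

theorem pb182 : PA.pcB HNV.A T2 m174 HNV.A_one 6 = true := by decide +kernel

theorem pc183 : PA.pcC HNV.A T2 8 0 [0] = true := by decide +kernel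

theorem pc184 : PA.pcC HNV.A T2 8 1 [0, 2] = true := by decide +kernel

theorem pc185 : PA.pcC HNV.A T2 8 2 [0, 4] = true := by decide +kernel

theorem pc186 : PA.pcC HNV.A T2 8 3 [0, 6] = true := by decide +kernel

theorem pc187 : PA.pcC HNV.A T2 8 4 [0, 8] = true := by decide +kernel

theorem pc188 : PA.pcC HNV.A T2 8 5 [10] = true := by decide +kernel

theorem pc189 : PA.pcC HNV.A T2 8 6 [0, 12] = true := by decide +kernel

theorem pc190 : PA.pcC HNV.A T2 8 7 [0, 10, 14] = true := by decide +kernel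

theorem pp191 : PA.pcP HNV.A T2 8 2 [] = true := by decide +kernel

theorem pb193 : PA.pcB' HNV.A T2 m192 HNV.A_one 8 = true := by decide +kernel

theorem pb194 : PA.pcB HNV.A T2 m192 HNV.A_one 0 = true := by decide +kernel

theorem pb195 : PA.pcB HNV.A T2 m192 HNV.A_one 1 = true := by decide +kernel

theorem pb196 : PA.pcB HNV.A T2 m192 HNV.A_one 2 = true := by decide +kernel

theorem pb197 : PA.pcB HNV.A T2 m192 HNV.A_one 3 = true := by decide +kernel

theorem pb198 : PA.pcB HNV.A T2 m192 HNV.A_one 4 = true := by decide +kernel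

theorem pb199 : PA.pcB HNV.A T2 m192 HNV.A_one 5 = true := by decide +kernel

theorem pb200 : PA.pcB HNV.A T2 m192 HNV.A_one 6 = true := by decide +kernel

theorem pb201 : PA.pcB HNV.A T2 m192 HNV.A_one 7 = true := by decide +kernel

theorem pc202 : PA.pcC HNV.A T2 9 0 [0] = true := by decide +kernel

theorem pc203 : PA.pcC HNV.A T2 9 1 [0, 2] = true := by decide +kernel

theorem pc204 : PA.pcC HNV.A T2 9 2 [4] = true := by decide +kernel

theorem pc205 : PA.pcC HNV.A T2 9 3 [6] = true := by decide +kernel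

theorem pc206 : PA.pcC HNV.A T2 9 4 [0, 8] = true := by decide +kernel

theorem pc207 : PA.pcC HNV.A T2 9 5 [10] = true := by decide +kernel

theorem pc208 : PA.pcC HNV.A T2 9 6 [12] = true := by decide +kernel

theorem pc209 : PA.pcC HNV.A T2 9 7 [4, 6, 14] = true := by decide +kernel

theorem pc210 : PA.pcC HNV.A T2 9 8 [0, 16] = true := by decide +kernel

theorem pp211 : PA.pcP HNV.A T2 9 2 [0] = true := by decide +kernel

theorem pb213 : PA.pcB' HNV.A T2 m212 HNV.A_one 9 = true := by decide +kernel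

theorem pb214 : PA.pcB HNV.A T2 m212 HNV.A_one 0 = true := by decide +kernel

theorem pb215 : PA.pcB HNV.A T2 m212 HNV.A_one 1 = true := by decide +kernel

theorem pb216 : PA.pcB HNV.A T2 m212 HNV.A_one 2 = true := by decide +kernel

theorem pb217 : PA.pcB HNV.A T2 m212 HNV.A_one 3 = true := by decide +kernel

theorem pb218 : PA.pcB HNV.A T2 m212 HNV.A_one 4 = true := by decide +kernel

theorem pb219 : PA.pcB HNV.A T2 m212 HNV.A_one 5 = true := by decide +kernel

theorem pb220 : PA.pcB HNV.A T2 m212 HNV.A_one 6 = true := by decide +kernel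

theorem pb221 : PA.pcB HNV.A T2 m212 HNV.A_one 7 = true := by decide +kernel

theorem pb222 : PA.pcB HNV.A T2 m212 HNV.A_one 8 = true := by decide +kernel

theorem pc223 : PA.pcC HNV.A T2 10 0 [0] = true := by decide +kernel

theorem pc224 : PA.pcC HNV.A T2 10 1 [2, 6, 8, 12] = true := by decide +kernel

theorem pc225 : PA.pcC HNV.A T2 10 2 [4] = true := by decide +kernel

theorem pc226 : PA.pcC HNV.A T2 10 3 [6] = true := by decide +kernel

theorem pc227 : PA.pcC HNV.A T2 10 4 [0, 6, 8] = true := by decide +kernel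

theorem pc228 : PA.pcC HNV.A T2 10 5 [4, 10] = true := by decide +kernel

theorem pc229 : PA.pcC HNV.A T2 10 6 [0, 6, 12] = true := by decide +kernel

theorem pc230 : PA.pcC HNV.A T2 10 7 [4, 14] = true := by decide +kernel

theorem pc231 : PA.pcC HNV.A T2 10 8 [4, 6, 10, 12, 16, 18] = true := by decide +kernel

theorem pc232 : PA.pcC HNV.A T2 10 9 [4, 6, 18] = true := by decide +kernel

theorem pp233 : PA.pcP HNV.A T2 10 2 [0, 6] = true := by decide +kernel

theorem pb235 : PA.pcB' HNV.A T2 m234 HNV.A_one 10 = true := by decide +kernel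

theorem pb236 : PA.pcB HNV.A T2 m234 HNV.A_one 0 = true := by decide +kernel

theorem pb237 : PA.pcB HNV.A T2 m234 HNV.A_one 1 = true := by decide +kernel

theorem pb238 : PA.pcB HNV.A T2 m234 HNV.A_one 2 = true := by decide +kernel

theorem pb239 : PA.pcB HNV.A T2 m234 HNV.A_one 3 = true := by decide +kernel

theorem pb240 : PA.pcB HNV.A T2 m234 HNV.A_one 4 = true := by decide +kernel

theorem pb241 : PA.pcB HNV.A T2 m234 HNV.A_one 5 = true := by decide +kernel

theorem pb242 : PA.pcB HNV.A T2 m234 HNV.A_one 6 = true := by decide +kernel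

theorem pb243 : PA.pcB HNV.A T2 m234 HNV.A_one 7 = true := by decide +kernel

theorem pb244 : PA.pcB HNV.A T2 m234 HNV.A_one 8 = true := by decide +kernel

theorem pb245 : PA.pcB HNV.A T2 m234 HNV.A_one 9 = true := by decide +kernel

theorem pc246 : PA.pcC HNV.A T2 11 0 [0] = true := by decide +kernel

theorem pc247 : PA.pcC HNV.A T2 11 1 [0, 2] = true := by decide +kernel

theorem pc248 : PA.pcC HNV.A T2 11 2 [4, 6] = true := by decide +kernel

theorem pc249 : PA.pcC HNV.A T2 11 3 [6] = true := by decide +kernel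

theorem pc250 : PA.pcC HNV.A T2 11 4 [8] = true := by decide +kernel

theorem pc251 : PA.pcC HNV.A T2 11 5 [8, 10] = true := by decide +kernel

theorem pc252 : PA.pcC HNV.A T2 11 6 [12] = true := by decide +kernel

theorem pc253 : PA.pcC HNV.A T2 11 7 [6, 14] = true := by decide +kernel

theorem pc254 : PA.pcC HNV.A T2 11 8 [2, 16] = true := by decide +kernel

theorem pc255 : PA.pcC HNV.A T2 11 9 [0, 12, 18] = true := by decide +kernel

theorem pc256 : PA.pcC HNV.A T2 11 10 [6, 8, 12, 20] = true := by decide +kernel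

theorem pp257 : PA.pcP HNV.A T2 11 2 [] = true := by decide +kernel

theorem pb259 : PA.pcB' HNV.A T2 m258 HNV.A_one 11 = true := by decide +kernel

theorem pb260 : PA.pcB HNV.A T2 m258 HNV.A_one 0 = true := by decide +kernel

theorem pb261 : PA.pcB HNV.A T2 m258 HNV.A_one 1 = true := by decide +kernel

theorem pb262 : PA.pcB HNV.A T2 m258 HNV.A_one 2 = true := by decide +kernel

theorem pb263 : PA.pcB HNV.A T2 m258 HNV.A_one 3 = true := by decide +kernel

theorem pb264 : PA.pcB HNV.A T2 m258 HNV.A_one 4 = true := by decide +kernel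

theorem pb265 : PA.pcB HNV.A T2 m258 HNV.A_one 5 = true := by decide +kernel

theorem pb266 : PA.pcB HNV.A T2 m258 HNV.A_one 6 = true := by decide +kernel

theorem pb267 : PA.pcB HNV.A T2 m258 HNV.A_one 7 = true := by decide +kernel

theorem pb268 : PA.pcB HNV.A T2 m258 HNV.A_one 8 = true := by decide +kernel

theorem pb269 : PA.pcB HNV.A T2 m258 HNV.A_one 9 = true := by decide +kernel

theorem pb270 : PA.pcB HNV.A T2 m258 HNV.A_one 10 = true := by decide +kernel

theorem pc271 : PA.pcC HNV.A T2 12 0 [0] = true := by decide +kernel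

theorem pc272 : PA.pcC HNV.A T2 12 1 [0, 2, 6] = true := by decide +kernel

theorem pc273 : PA.pcC HNV.A T2 12 2 [0, 4] = true := by decide +kernel

theorem pc274 : PA.pcC HNV.A T2 12 3 [0, 6] = true := by decide +kernel

theorem pc275 : PA.pcC HNV.A T2 12 4 [6, 8, 12] = true := by decide +kernel

theorem pc276 : PA.pcC HNV.A T2 12 5 [4, 10, 12, 18] = true := by decide +kernel

theorem pc277 : PA.pcC HNV.A T2 12 6 [12] = true := by decide +kernel

theorem pc278 : PA.pcC HNV.A T2 12 7 [12, 20] = true := by decide +kernel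

theorem pc279 : PA.pcC HNV.A T2 12 8 [0, 4, 12, 16] = true := by decide +kernel

theorem pc280 : PA.pcC HNV.A T2 12 9 [18] = true := by decide +kernel

theorem pc281 : PA.pcC HNV.A T2 12 10 [4, 6, 12, 14] = true := by decide +kernel

theorem pc282 : PA.pcC HNV.A T2 12 11 [2, 6, 8, 22] = true := by decide +kernel

theorem pp283 : PA.pcP HNV.A T2 12 2 [0, 18] = true := by decide +kernel

theorem pb285 : PA.pcB' HNV.A T2 m284 HNV.A_one 12 = true := by decide +kernel

theorem pb286 : PA.pcB HNV.A T2 m284 HNV.A_one 0 = true := by decide +kernel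

theorem pb287 : PA.pcB HNV.A T2 m284 HNV.A_one 1 = true := by decide +kernel

theorem pb288 : PA.pcB HNV.A T2 m284 HNV.A_one 2 = true := by decide +kernel

theorem pb289 : PA.pcB HNV.A T2 m284 HNV.A_one 3 = true := by decide +kernel

theorem pb290 : PA.pcB HNV.A T2 m284 HNV.A_one 4 = true := by decide +kernel

theorem pb291 : PA.pcB HNV.A T2 m284 HNV.A_one 5 = true := by decide +kernel

theorem pb292 : PA.pcB HNV.A T2 m284 HNV.A_one 6 = true := by decide +kernel

theorem pb293 : PA.pcB HNV.A T2 m284 HNV.A_one 7 = true := by decide +kernel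

theorem pb294 : PA.pcB HNV.A T2 m284 HNV.A_one 8 = true := by decide +kernel

theorem pb295 : PA.pcB HNV.A T2 m284 HNV.A_one 9 = true := by decide +kernel

theorem pb296 : PA.pcB HNV.A T2 m284 HNV.A_one 10 = true := by decide +kernel

theorem pb297 : PA.pcB HNV.A T2 m284 HNV.A_one 11 = true := by decide +kernel

theorem pc298 : PA.pcC HNV.A T2 13 0 [0] = true := by decide +kernel

theorem pc299 : PA.pcC HNV.A T2 13 1 [2, 8] = true := by decide +kernel

theorem pc300 : PA.pcC HNV.A T2 13 2 [0, 4, 6, 12] = true := by decide +kernel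

theorem pc301 : PA.pcC HNV.A T2 13 3 [6] = true := by decide +kernel

theorem pc302 : PA.pcC HNV.A T2 13 4 [0, 8] = true := by decide +kernel

theorem pc303 : PA.pcC HNV.A T2 13 5 [0, 2, 6, 8, 10] = true := by decide +kernel

theorem pc304 : PA.pcC HNV.A T2 13 6 [6, 12] = true := by decide +kernel

theorem pc305 : PA.pcC HNV.A T2 13 7 [12, 14, 22] = true := by decide +kernel

theorem pc306 : PA.pcC HNV.A T2 13 8 [2, 6, 10, 12, 16] = true := by decide +kernel

theorem pc307 : PA.pcC HNV.A T2 13 9 [0, 4, 6, 12, 18] = true := by decide +kernel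

theorem pc308 : PA.pcC HNV.A T2 13 10 [0, 2, 4, 8, 20, 22] = true := by decide +kernel

theorem pc309 : PA.pcC HNV.A T2 13 11 [22] = true := by decide +kernel

theorem pc310 : PA.pcC HNV.A T2 13 12 [6, 8, 14, 20, 24] = true := by decide +kernel

theorem pp311 : PA.pcP HNV.A T2 13 2 [22] = true := by decide +kernel

theorem pb313 : PA.pcB' HNV.A T2 m312 HNV.A_one 13 = true := by decide +kernel

theorem pb314 : PA.pcB HNV.A T2 m312 HNV.A_one 0 = true := by decide +kernel

theorem pb315 : PA.pcB HNV.A T2 m312 HNV.A_one 1 = true := by decide +kernel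

theorem pb316 : PA.pcB HNV.A T2 m312 HNV.A_one 2 = true := by decide +kernel

theorem pb317 : PA.pcB HNV.A T2 m312 HNV.A_one 3 = true := by decide +kernel

theorem pb318 : PA.pcB HNV.A T2 m312 HNV.A_one 4 = true := by decide +kernel

theorem pb319 : PA.pcB HNV.A T2 m312 HNV.A_one 5 = true := by decide +kernel

theorem pb320 : PA.pcB HNV.A T2 m312 HNV.A_one 6 = true := by decide +kernel

theorem pb321 : PA.pcB HNV.A T2 m312 HNV.A_one 7 = true := by decide +kernel

theorem pb322 : PA.pcB HNV.A T2 m312 HNV.A_one 8 = true := by decide +kernel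

theorem pb323 : PA.pcB HNV.A T2 m312 HNV.A_one 9 = true := by decide +kernel

theorem pb324 : PA.pcB HNV.A T2 m312 HNV.A_one 10 = true := by decide +kernel

theorem pb325 : PA.pcB HNV.A T2 m312 HNV.A_one 11 = true := by decide +kernel

theorem pb326 : PA.pcB HNV.A T2 m312 HNV.A_one 12 = true := by decide +kernel

theorem pr328 : Nat.beq (PA.prod HNV.A [HNV.gy, HNV.gx, HNV.iy, HNV.iy, HNV.gx, HNV.gy, HNV.gy, HNV.gx, HNV.gy, HNV.gx, HNV.gy, HNV.gx, HNV.gy, HNV.gy, HNV.gx, HNV.iy, HNV.ix, HNV.iy, HNV.iy, HNV.ix] HNV.A.one) m327 = true := by decide +kernel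

theorem pr331 : Nat.beq (PA.prod HNV.A [HNV.ix, HNV.iy, HNV.gx, HNV.iy, HNV.gx, HNV.iy, HNV.gx, HNV.gy, HNV.gy, HNV.gx, HNV.gy, HNV.gx, HNV.gy, HNV.gx, HNV.iy, HNV.iy, HNV.ix] HNV.A.one) m330 = true := by decide +kernel

theorem pr334 : Nat.beq (PA.prod HNV.A [m19, m22, m46, m13, m16, m22, m13, m19, m16] HNV.A.one) m333 = true := by decide +kernel

theorem iv337 : band (PA.can HNV.A m336) (Nat.beq (PA.mul HNV.A m327 m336) HNV.A.one) = true := by decide +kernel

theorem iv340 : band (PA.can HNV.A m339) (Nat.beq (PA.mul HNV.A m330 m339) HNV.A.one) = true := by decide +kernel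

theorem pr343 : Nat.beq (PA.prod HNV.A [m327, m330, m336, m339] HNV.A.one) m342 = true := by decide +kernel

theorem iv346 : band (PA.can HNV.A m345) (Nat.beq (PA.mul HNV.A m333 m345) HNV.A.one) = true := by decide +kernel

theorem pr349 : Nat.beq (PA.prod HNV.A [m327, HNV.it, m345, m339, m333] HNV.A.one) m348 = true := by decide +kernel

theorem pr352 : Nat.beq (PA.prod HNV.A [m336, m339, m336, HNV.gt] HNV.A.one) m351 = true := by decide +kernel

theorem pr355 : Nat.beq (PA.prod HNV.A [m327, HNV.gt] HNV.A.one) m354 = true := by decide +kernel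

theorem T5ok : PA.gensOk HNV.A T5 6 = true := by decide +kernel

theorem pp361 : PA.pcP HNV.A T5 0 5 [] = true := by decide +kernel

theorem pb363 : PA.pcB' HNV.A T5 m362 HNV.A_one 0 = true := by decide +kernel

theorem pc364 : PA.pcC HNV.A T5 1 0 [0] = true := by decide +kernel

theorem pp365 : PA.pcP HNV.A T5 1 5 [] = true := by decide +kernel

theorem pb367 : PA.pcB' HNV.A T5 m366 HNV.A_one 1 = true := by decide +kernel

theorem pb368 : PA.pcB HNV.A T5 m366 HNV.A_one 0 = true := by decide +kernel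

theorem pc369 : PA.pcC HNV.A T5 2 0 [0] = true := by decide +kernel

theorem pc370 : PA.pcC HNV.A T5 2 1 [2] = true := by decide +kernel

theorem pp371 : PA.pcP HNV.A T5 2 5 [] = true := by decide +kernel

theorem pb373 : PA.pcB' HNV.A T5 m372 HNV.A_one 2 = true := by decide +kernel

theorem pb374 : PA.pcB HNV.A T5 m372 HNV.A_one 0 = true := by decide +kernel

theorem pb375 : PA.pcB HNV.A T5 m372 HNV.A_one 1 = true := by decide +kernel

theorem pc376 : PA.pcC HNV.A T5 3 0 [0] = true := by decide +kernel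

theorem pc377 : PA.pcC HNV.A T5 3 1 [2] = true := by decide +kernel

theorem pc378 : PA.pcC HNV.A T5 3 2 [1, 4] = true := by decide +kernel

theorem pp379 : PA.pcP HNV.A T5 3 5 [] = true := by decide +kernel

theorem pb381 : PA.pcB' HNV.A T5 m380 HNV.A_one 3 = true := by decide +kernel

theorem pb382 : PA.pcB HNV.A T5 m380 HNV.A_one 0 = true := by decide +kernel

theorem pb383 : PA.pcB HNV.A T5 m380 HNV.A_one 1 = true := by decide +kernel

theorem pb384 : PA.pcB HNV.A T5 m380 HNV.A_one 2 = true := by decide +kernel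

theorem pc385 : PA.pcC HNV.A T5 4 0 [0] = true := by decide +kernel

theorem pc386 : PA.pcC HNV.A T5 4 1 [2] = true := by decide +kernel

theorem pc387 : PA.pcC HNV.A T5 4 2 [3, 3, 4] = true := by decide +kernel

theorem pc388 : PA.pcC HNV.A T5 4 3 [1, 3, 3, 4, 4, 6] = true := by decide +kernel

theorem pp389 : PA.pcP HNV.A T5 4 5 [] = true := by decide +kernel

theorem pb392 : PA.pcB' HNV.A T5 m390 m391 4 = true := by decide +kernel

theorem pb393 : PA.pcB HNV.A T5 m390 m391 0 = true := by decide +kernel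

theorem pb394 : PA.pcB HNV.A T5 m390 m391 1 = true := by decide +kernel

theorem pb395 : PA.pcB HNV.A T5 m390 m391 2 = true := by decide +kernel

theorem pb396 : PA.pcB HNV.A T5 m390 m391 3 = true := by decide +kernel

theorem pc397 : PA.pcC HNV.A T5 5 0 [0] = true := by decide +kernel

theorem pc398 : PA.pcC HNV.A T5 5 1 [0, 0, 2] = true := by decide +kernel

theorem pc399 : PA.pcC HNV.A T5 5 2 [1, 4] = true := by decide +kernel

theorem pc400 : PA.pcC HNV.A T5 5 3 [6] = true := by decide +kernel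

theorem pc401 : PA.pcC HNV.A T5 5 4 [1, 3, 3, 4, 4, 7, 8] = true := by decide +kernel

theorem pp402 : PA.pcP HNV.A T5 5 5 [] = true := by decide +kernel

theorem pb404 : PA.pcB' HNV.A T5 m403 HNV.A_one 5 = true := by decide +kernel

theorem pb405 : PA.pcB HNV.A T5 m403 HNV.A_one 0 = true := by decide +kernel

theorem pb406 : PA.pcB HNV.A T5 m403 HNV.A_one 1 = true := by decide +kernel

theorem pb407 : PA.pcB HNV.A T5 m403 HNV.A_one 2 = true := by decide +kernel

theorem pb408 : PA.pcB HNV.A T5 m403 HNV.A_one 3 = true := by decide +kernel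

theorem pb409 : PA.pcB HNV.A T5 m403 HNV.A_one 4 = true := by decide +kernel

theorem pr411 : Nat.beq (PA.prod HNV.A [HNV.gz, HNV.gy, HNV.gx, HNV.iy, HNV.iy, HNV.gz, HNV.iy, HNV.iy, HNV.gx, HNV.iy, HNV.gx, HNV.gy, HNV.gx, HNV.gy, HNV.gx, HNV.iy, HNV.ix, HNV.iy, HNV.iy, HNV.gz, HNV.gy, HNV.ix, HNV.gy] HNV.A.one) m410 = true := by decide +kernel

theorem pr414 : Nat.beq (PA.prod HNV.A [HNV.gx, HNV.iy, HNV.iy, HNV.gz, HNV.gy, HNV.gy, HNV.gz, HNV.gy, HNV.gy, HNV.gz, HNV.gy, HNV.gz, HNV.iy, HNV.iy, HNV.ix, HNV.iy, HNV.ix, HNV.gz, HNV.iy] HNV.A.one) m413 = true := by decide +kernel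

theorem pr417 : Nat.beq (PA.prod HNV.A [HNV.gx, HNV.gy, HNV.gx, HNV.gy, HNV.gy, HNV.gy, HNV.gx, HNV.gy, HNV.gy, HNV.gy, HNV.gy, HNV.gz, HNV.gy] HNV.A.one) m416 = true := by decide +kernel

theorem iv420 : band (PA.can HNV.A m419) (Nat.beq (PA.mul HNV.A m413 m419) HNV.A.one) = true := by decide +kernel

theorem pr423 : Nat.beq (PA.prod HNV.A [HNV.it, m410, HNV.gt, m410, m419, HNV.it, HNV.it, m413, HNV.gt] HNV.A.one) m422 = true := by decide +kernel

theorem pr426 : Nat.beq (PA.prod HNV.A [HNV.gt, m410, m419, HNV.it, m410, HNV.it, m419, m410, HNV.it, m419, m410, HNV.gt, m410, m419, m419, m410, m413] HNV.A.one) m425 = true := by decide +kernel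

theorem pr429 : Nat.beq (PA.prod HNV.A [m413, m410, HNV.gt, HNV.gt, m413, m410, HNV.it, m410, m419, m410, m419] HNV.A.one) m428 = true := by decide +kernel

theorem iv432 : band (PA.can HNV.A m431) (Nat.beq (PA.mul HNV.A m416 m431) HNV.A.one) = true := by decide +kernel

theorem pr435 : Nat.beq (PA.prod HNV.A [m16, m28, m16, m28, m25, m19, m16, m40] HNV.A.one) m434 = true := by decide +kernel

theorem pr438 : Nat.beq (PA.prod HNV.A [m431, m434, m416] HNV.A.one) m437 = true := by decide +kernel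

theorem iv441 : band (PA.can HNV.A m440) (Nat.beq (PA.mul HNV.A m428 m440) HNV.A.one) = true := by decide +kernel

theorem iv444 : band (PA.can HNV.A m443) (Nat.beq (PA.mul HNV.A m425 m443) HNV.A.one) = true := by decide +kernel

theorem iv447 : band (PA.can HNV.A m446) (Nat.beq (PA.mul HNV.A m437 m446) HNV.A.one) = true := by decide +kernel

theorem pr450 : Nat.beq (PA.prod HNV.A [m437, m440, m443, m446, m422] HNV.A.one) m449 = true := by decide +kernel

theorem pr453 : Nat.beq (PA.prod HNV.A [m413, m410, HNV.it, HNV.it, m419, m410, HNV.gt, m413, m413, m410, HNV.it, m413, HNV.gt, HNV.gt, m410, m419, m419] HNV.A.one) m452 = true := by decide +kernel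

theorem iv456 : band (PA.can HNV.A m455) (Nat.beq (PA.mul HNV.A m422 m455) HNV.A.one) = true := by decide +kernel

theorem iv459 : band (PA.can HNV.A m458) (Nat.beq (PA.mul HNV.A m449 m458) HNV.A.one) = true := by decide +kernel

theorem pr462 : Nat.beq (PA.prod HNV.A [m422, m449, m455, m458] HNV.A.one) m461 = true := by decide +kernel

theorem pr465 : Nat.beq (PA.prod HNV.A [m455, m443, m422, m425] HNV.A.one) m464 = true := by decide +kernel

theorem T3ok : PA.gensOk HNV.A T3 6 = true := by decide +kernel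

theorem pp470 : PA.pcP HNV.A T3 0 3 [] = true := by decide +kernel

theorem pb472 : PA.pcB' HNV.A T3 m471 HNV.A_one 0 = true := by decide +kernel

theorem pc473 : PA.pcC HNV.A T3 1 0 [0] = true := by decide +kernel

theorem pp474 : PA.pcP HNV.A T3 1 3 [] = true := by decide +kernel

theorem pb476 : PA.pcB' HNV.A T3 m475 HNV.A_one 1 = true := by decide +kernel

theorem pb477 : PA.pcB HNV.A T3 m475 HNV.A_one 0 = true := by decide +kernel

theorem pc478 : PA.pcC HNV.A T3 2 0 [0] = true := by decide +kernel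

theorem pc479 : PA.pcC HNV.A T3 2 1 [2] = true := by decide +kernel

theorem pp480 : PA.pcP HNV.A T3 2 3 [] = true := by decide +kernel

theorem pb482 : PA.pcB' HNV.A T3 m481 HNV.A_one 2 = true := by decide +kernel

theorem pb483 : PA.pcB HNV.A T3 m481 HNV.A_one 0 = true := by decide +kernel

theorem pb484 : PA.pcB HNV.A T3 m481 HNV.A_one 1 = true := by decide +kernel

theorem pc485 : PA.pcC HNV.A T3 3 0 [0] = true := by decide +kernel

theorem pc486 : PA.pcC HNV.A T3 3 1 [2] = true := by decide +kernel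

theorem pc487 : PA.pcC HNV.A T3 3 2 [4] = true := by decide +kernel

theorem pp488 : PA.pcP HNV.A T3 3 3 [] = true := by decide +kernel

theorem pb490 : PA.pcB' HNV.A T3 m489 HNV.A_one 3 = true := by decide +kernel

theorem pb491 : PA.pcB HNV.A T3 m489 HNV.A_one 0 = true := by decide +kernel

theorem pb492 : PA.pcB HNV.A T3 m489 HNV.A_one 1 = true := by decide +kernel

theorem pb493 : PA.pcB HNV.A T3 m489 HNV.A_one 2 = true := by decide +kernel

theorem pc494 : PA.pcC HNV.A T3 4 0 [0, 2] = true := by decide +kernel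

theorem pc495 : PA.pcC HNV.A T3 4 1 [2] = true := by decide +kernel

theorem pc496 : PA.pcC HNV.A T3 4 2 [3, 4] = true := by decide +kernel

theorem pc497 : PA.pcC HNV.A T3 4 3 [2, 5, 6] = true := by decide +kernel

theorem pp498 : PA.pcP HNV.A T3 4 3 [] = true := by decide +kernel

theorem pb500 : PA.pcB' HNV.A T3 m499 HNV.A_one 4 = true := by decide +kernel

theorem pb501 : PA.pcB HNV.A T3 m499 HNV.A_one 0 = true := by decide +kernel

theorem pb502 : PA.pcB HNV.A T3 m499 HNV.A_one 1 = true := by decide +kernel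

theorem pb503 : PA.pcB HNV.A T3 m499 HNV.A_one 2 = true := by decide +kernel

theorem pb504 : PA.pcB HNV.A T3 m499 HNV.A_one 3 = true := by decide +kernel

theorem pc505 : PA.pcC HNV.A T3 5 0 [0] = true := by decide +kernel

theorem pc506 : PA.pcC HNV.A T3 5 1 [2] = true := by decide +kernel

theorem pc507 : PA.pcC HNV.A T3 5 2 [2, 4] = true := by decide +kernel

theorem pc508 : PA.pcC HNV.A T3 5 3 [1, 6] = true := by decide +kernel

theorem pc509 : PA.pcC HNV.A T3 5 4 [3, 4, 8] = true := by decide +kernel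

theorem pp510 : PA.pcP HNV.A T3 5 3 [] = true := by decide +kernel

theorem pb512 : PA.pcB' HNV.A T3 m511 HNV.A_one 5 = true := by decide +kernel

theorem pb513 : PA.pcB HNV.A T3 m511 HNV.A_one 0 = true := by decide +kernel

theorem pb514 : PA.pcB HNV.A T3 m511 HNV.A_one 1 = true := by decide +kernel

theorem pb515 : PA.pcB HNV.A T3 m511 HNV.A_one 2 = true := by decide +kernel

theorem pb516 : PA.pcB HNV.A T3 m511 HNV.A_one 3 = true := by decide +kernel

theorem pb517 : PA.pcB HNV.A T3 m511 HNV.A_one 4 = true := by decide +kernel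

theorem w518 : PA.isW HNV.A HNV.TT [2, 4, 7, 7, 3, 7, 4] g7 = true := by decide +kernel

theorem o7 : band (Nat.beq (PA.pw HNV.A g7 7) HNV.A.one) (PA.neq HNV.A g7 HNV.A.one) = true := by decide +kernel

theorem w520 : PA.isW HNV.A HNV.TT [2, 0, 3, 6, 0, 3, 4] g11 = true := by decide +kernel

theorem o11 : band (Nat.beq (PA.pw HNV.A g11 11) HNV.A.one) (PA.neq HNV.A g11 HNV.A.one) = true := by decide +kernel

theorem w522 : PA.isW HNV.A HNV.TT [6, 2, 4, 2, 0, 6, 4] g19 = true := by decide +kernel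

theorem o19 : band (Nat.beq (PA.pw HNV.A g19 19) HNV.A.one) (PA.neq HNV.A g19 HNV.A.one) = true := by decide +kernel

theorem sw2 : HNG.D.symW 6 [[2, 4, 3, 4, 3, 4, 2, 2, 4, 2, 2, 2, 1, 3, 5, 3, 3, 1, 2], []] 2 = true := by decide +kernel

theorem g2 : band (lall (fun y => Nat.blt y 6) (lapp [1, 3, 3, 4, 2, 4, 0, 2, 4, 0, 2, 0, 3, 0, 3, 1, 3, 3, 3, 5] (lapp [2] (lapp [3, 3, 0, 3, 4, 3, 0, 3, 1, 2, 2, 2] [0])))) (Nat.beq (PA.evw HNV.A HNV.TT (lapp [1, 3, 3, 4, 2, 4, 0, 2, 4, 0, 2, 0, 3, 0, 3, 1, 3, 3, 3, 5] (lapp (symWord 6 [[2, 4, 3, 4, 3, 4, 2, 2, 4, 2, 2, 2, 1, 3, 5, 3, 3, 1, 2], []]) (lapp [2] (lapp (symWord 6 [[2, 4, 3, 4, 3, 4, 2, 2, 4, 2, 2, 2, 1, 3, 5, 3, 3, 1, 2], []]) (lapp [3, 3, 0, 3, 4, 3, 0, 3, 1, 2, 2, 2] (lapp (symWord 6 [[2, 4, 3, 4, 3, 4, 2, 2, 4, 2, 2, 2, 1, 3, 5, 3, 3, 1, 2], []]) [0])))))) HNV.A.one) (PA.evw HNV.A HNV.TT [6] HNV.A.one)) = true := by decide +kernel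

theorem pr525 : Nat.beq (PA.prod HNV.A [m413, m410, HNV.gt, m413, m410, HNV.gt, HNV.gt, m410, m419, m410, m419] HNV.A.one) m524 = true := by decide +kernel

theorem pr528 : Nat.beq (PA.prod HNV.A [m413, m410, HNV.it, m413, m410, HNV.it, HNV.it, m410, m419, m410, m419] HNV.A.one) m527 = true := by decide +kernel

theorem pr531 : Nat.beq (PA.prod HNV.A [m413, m410, HNV.it, HNV.it, m413, m410, HNV.gt, m410, m419, m410, m419] HNV.A.one) m530 = true := by decide +kernel

theorem pr534 : Nat.beq (PA.prod HNV.A [HNV.gt, m413, m410, HNV.gt, HNV.gt, m413, m410, HNV.it, m410, m419, m410, m419, HNV.it] HNV.A.one) m533 = true := by decide +kernel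

theorem pr537 : Nat.beq (PA.prod HNV.A [m410, HNV.gt, m413, m410, m413, m410, HNV.gt, m410, m419, HNV.it, HNV.it, m410, m419, HNV.it, m410] HNV.A.one) m536 = true := by decide +kernel

theorem pr540 : Nat.beq (PA.prod HNV.A [m413, HNV.gt, m410, HNV.it, m413, m410, HNV.it, HNV.it, m410, m419, m410, HNV.it, m419] HNV.A.one) m539 = true := by decide +kernel

theorem pr543 : Nat.beq (PA.prod HNV.A [m410, m413, m413, m410, m413, m413, m410, m413, m413, m410, m413, m413] HNV.A.one) m542 = true := by decide +kernel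

theorem pr546 : Nat.beq (PA.prod HNV.A [m413, m410, HNV.gt, m413, m410, HNV.gt, HNV.gt, m413, m410, HNV.it, m410, m419, m410, m419, HNV.it, m410, m419] HNV.A.one) m545 = true := by decide +kernel

theorem pr549 : Nat.beq (PA.prod HNV.A [m413, m410, HNV.gt, m410, HNV.gt, HNV.gt, m413, HNV.gt, m410, HNV.gt, HNV.gt, m419, HNV.it, m410, m419, m419, HNV.it, HNV.it] HNV.A.one) m548 = true := by decide +kernel

theorem TAok : PA.gensOk HNV.A TA 10 = true := by decide +kernel

theorem neA : PA.neq HNV.A (PA.evw HNV.A TA [0] HNV.A.one) HNV.A.one = true := by decide +kernel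

theorem r560 : PA.isW HNV.A TA [0, 0, 0] HNV.A.one = true := by decide +kernel

theorem r561 : PA.isW HNV.A TA [2, 2, 2] HNV.A.one = true := by decide +kernel

theorem r562 : PA.isW HNV.A TA [4, 4, 4] HNV.A.one = true := by decide +kernel

theorem r563 : PA.isW HNV.A TA [6, 6, 6] HNV.A.one = true := by decide +kernel

theorem r564 : PA.isW HNV.A TA [8, 8, 8] HNV.A.one = true := by decide +kernel

theorem r565 : PA.isW HNV.A TA [10, 10, 10] HNV.A.one = true := by decide +kernel

theorem r566 : PA.isW HNV.A TA [12, 12, 12] HNV.A.one = true := by decide +kernel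

theorem r567 : PA.isW HNV.A TA [14, 14, 14] HNV.A.one = true := by decide +kernel

theorem r568 : PA.isW HNV.A TA [16, 16, 16] HNV.A.one = true := by decide +kernel

theorem r569 : PA.isW HNV.A TA [18, 18, 18] HNV.A.one = true := by decide +kernel

theorem r570 : PA.isW HNV.A TA [0, 2, 0, 2] HNV.A.one = true := by decide +kernel

theorem r571 : PA.isW HNV.A TA [0, 4, 0, 4] HNV.A.one = true := by decide +kernel

theorem r572 : PA.isW HNV.A TA [0, 6, 0, 6] HNV.A.one = true := by decide +kernel

theorem r573 : PA.isW HNV.A TA [0, 8, 0, 8] HNV.A.one = true := by decide +kernel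

theorem r574 : PA.isW HNV.A TA [0, 10, 0, 10] HNV.A.one = true := by decide +kernel

theorem r575 : PA.isW HNV.A TA [0, 12, 0, 12] HNV.A.one = true := by decide +kernel

theorem r576 : PA.isW HNV.A TA [0, 14, 0, 14] HNV.A.one = true := by decide +kernel

theorem r577 : PA.isW HNV.A TA [0, 16, 0, 16] HNV.A.one = true := by decide +kernel

theorem r578 : PA.isW HNV.A TA [0, 18, 0, 18] HNV.A.one = true := by decide +kernel

theorem r579 : PA.isW HNV.A TA [2, 4, 2, 4] HNV.A.one = true := by decide +kernel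

theorem r580 : PA.isW HNV.A TA [2, 6, 2, 6] HNV.A.one = true := by decide +kernel

theorem r581 : PA.isW HNV.A TA [2, 8, 2, 8] HNV.A.one = true := by decide +kernel

theorem r582 : PA.isW HNV.A TA [2, 10, 2, 10] HNV.A.one = true := by decide +kernel

theorem r583 : PA.isW HNV.A TA [2, 12, 2, 12] HNV.A.one = true := by decide +kernel

theorem r584 : PA.isW HNV.A TA [2, 14, 2, 14] HNV.A.one = true := by decide +kernel

theorem r585 : PA.isW HNV.A TA [2, 16, 2, 16] HNV.A.one = true := by decide +kernel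

theorem r586 : PA.isW HNV.A TA [2, 18, 2, 18] HNV.A.one = true := by decide +kernel

theorem r587 : PA.isW HNV.A TA [4, 6, 4, 6] HNV.A.one = true := by decide +kernel

theorem r588 : PA.isW HNV.A TA [4, 8, 4, 8] HNV.A.one = true := by decide +kernel

theorem r589 : PA.isW HNV.A TA [4, 10, 4, 10] HNV.A.one = true := by decide +kernel

theorem r590 : PA.isW HNV.A TA [4, 12, 4, 12] HNV.A.one = true := by decide +kernel

theorem r591 : PA.isW HNV.A TA [4, 14, 4, 14] HNV.A.one = true := by decide +kernel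

theorem r592 : PA.isW HNV.A TA [4, 16, 4, 16] HNV.A.one = true := by decide +kernel

theorem r593 : PA.isW HNV.A TA [4, 18, 4, 18] HNV.A.one = true := by decide +kernel

theorem r594 : PA.isW HNV.A TA [6, 8, 6, 8] HNV.A.one = true := by decide +kernel

theorem r595 : PA.isW HNV.A TA [6, 10, 6, 10] HNV.A.one = true := by decide +kernel

theorem r596 : PA.isW HNV.A TA [6, 12, 6, 12] HNV.A.one = true := by decide +kernel

theorem r597 : PA.isW HNV.A TA [6, 14, 6, 14] HNV.A.one = true := by decide +kernel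

theorem r598 : PA.isW HNV.A TA [6, 16, 6, 16] HNV.A.one = true := by decide +kernel

theorem r599 : PA.isW HNV.A TA [6, 18, 6, 18] HNV.A.one = true := by decide +kernel

theorem r600 : PA.isW HNV.A TA [8, 10, 8, 10] HNV.A.one = true := by decide +kernel

theorem r601 : PA.isW HNV.A TA [8, 12, 8, 12] HNV.A.one = true := by decide +kernel

theorem r602 : PA.isW HNV.A TA [8, 14, 8, 14] HNV.A.one = true := by decide +kernel

theorem r603 : PA.isW HNV.A TA [8, 16, 8, 16] HNV.A.one = true := by decide +kernel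

theorem r604 : PA.isW HNV.A TA [8, 18, 8, 18] HNV.A.one = true := by decide +kernel

theorem r605 : PA.isW HNV.A TA [10, 12, 10, 12] HNV.A.one = true := by decide +kernel

theorem r606 : PA.isW HNV.A TA [10, 14, 10, 14] HNV.A.one = true := by decide +kernel

theorem r607 : PA.isW HNV.A TA [10, 16, 10, 16] HNV.A.one = true := by decide +kernel

theorem r608 : PA.isW HNV.A TA [10, 18, 10, 18] HNV.A.one = true := by decide +kernel

theorem r609 : PA.isW HNV.A TA [12, 14, 12, 14] HNV.A.one = true := by decide +kernel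

theorem r610 : PA.isW HNV.A TA [12, 16, 12, 16] HNV.A.one = true := by decide +kernel

theorem r611 : PA.isW HNV.A TA [12, 18, 12, 18] HNV.A.one = true := by decide +kernel

theorem r612 : PA.isW HNV.A TA [14, 16, 14, 16] HNV.A.one = true := by decide +kernel

theorem r613 : PA.isW HNV.A TA [14, 18, 14, 18] HNV.A.one = true := by decide +kernel

theorem r614 : PA.isW HNV.A TA [16, 18, 16, 18] HNV.A.one = true := by decide +kernel

end Cfsg.Agent.Spor.HNL
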