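import Cfsg.Agent.Spor.HNV.Main
import Cfsg.Agent.Spor.An12.Grp
import Cfsg.Agent.Spor.HNL.C0

set_option autoImplicit false
set_option maxRecDepth 100000000
set_option Elab.async false

namespace Cfsg.Agent.Spor.HNL

theorem hM3 : HNV.X.M m1 := MRep.M.of_prod (L := [HNV.gy, HNV.ix, HNV.iy, HNV.gx, HNV.iy, HNV.gx, HNV.gy, HNV.gx, HNV.gy, HNV.gy, HNV.gy, HNV.gx, HNV.gy, HNV.gy, HNV.gx, HNV.iy, HNV.ix, HNV.gy, HNV.ix, HNV.gy]) (AllP.cons (HNV.gens 2).1 (AllP.cons (HNV.gens 1).1 (AllP.cons (HNV.gens 3).1 (AllP.cons (HNV.gens 0).1 (AllP.cons (HNV.gens 3).1 (AllP.cons (HNV.gens 0).1 (AllP.cons (HNV.gens 2).1 (AllP.cons (HNV.gens 0).1 (AllP.cons (HNV.gens 2).1 (AllP.cons (HNV.gens 2).1 (AllP.cons (HNV.gens 2).1 (AllP.cons (HNV.gens 0).1 (AllP.cons (HNV.gens 2).1 (AllP.cons (HNV.gens 2).1 (AllP.cons (HNV.gens 0).1 (AllP.cons (HNV.gens 3).1 (AllP.cons (HNV.gens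 1).1 (AllP.cons (HNV.gens 2).1 (AllP.cons (HNV.gens 1).1 (AllP.cons (HNV.gens 2).1 (AllP.nil))))))))))))))))))))) pr2
theorem hM6 : HNV.X.M m4 := MRep.M.of_prod (L := [HNV.gz, HNV.it, HNV.gz]) (AllP.cons (HNV.gens 5).1 (AllP.cons (HNV.gens 7).1 (AllP.cons (HNV.gens 5).1 (AllP.nil)))) pr5
theorem hM9 : HNV.X.M m7 := (MRep.M.inv hM6 iv8).1
theorem hM12 : HNV.X.M m10 := MRep.M.of_prod (L := [m1, m7, m1, m4]) (AllP.cons hM3 (AllP.cons hM9 (AllP.cons hM3 (AllP.cons hM6 (AllP.nil))))) pr11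
theorem hM15 : HNV.X.M m13 := MRep.M.of_prod (L := [m4, m10]) (AllP.cons hM6 (AllP.cons hM12 (AllP.nil))) pr14
theorem hM18 : HNV.X.M m16 := MRep.M.of_prod (L := [HNV.gy, HNV.gz, HNV.gy, HNV.ix, HNV.gy, HNV.gy, HNV.gx, HNV.gy, HNV.gy, HNV.gz, HNV.gy, HNV.gz, HNV.iy, HNV.iy, HNV.ix, HNV.gy, HNV.gy, HNV.ix, HNV.gy, HNV.ix, HNV.gz]) (AllP.cons (HNV.gens 2).1 (AllP.cons (HNV.gens 5).1 (AllP.cons (HNV.gens 2).1 (AllP.cons (HNV.gens 1).1 (AllP.cons (HNV.gens 2).1 (AllP.cons (HNV.gens 2).1 (AllP.cons (HNV.gens 0).1 (AllP.cons (HNV.gens 2).1 (AllP.cons (HNV.gens 2).1 (AllP.cons (HNV.gens 5).1 (AllP.cons (HNV.gens 2).1 (AllP.cons (HNV.gens 5).1 (AllP.cons (HNV.gens 3).1 (AllP.cons (HNV.gens 3).1 (AllP.cons (HNV.gens 1).1 (AllP.cons (HNV.gens 2).1 (AllP.cons (HNV.gens 2).1 (AllP.cons (HNV.gens 1).1 (AllP.cons (HNV.gens 2).1 (AllP.cons (HNV.gens 1).1 (AllP.cons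 (HNV.gens 5).1 (AllP.nil)))))))))))))))))))))) pr17
theorem hM21 : HNV.X.M m19 := MRep.M.of_prod (L := [HNV.gz, HNV.gy, HNV.gy, HNV.gx, HNV.iy, HNV.gz, HNV.iy, HNV.gz, HNV.gx, HNV.iy, HNV.gz, HNV.gy, HNV.gy, HNV.gy, HNV.gx, HNV.gy, HNV.ix, HNV.iy, HNV.ix, HNV.iy, HNV.ix]) (AllP.cons (HNV.gens 5).1 (AllP.cons (HNV.gens 2).1 (AllP.cons (HNV.gens 2).1 (AllP.cons (HNV.gens 0).1 (AllP.cons (HNV.gens 3).1 (AllP.cons (HNV.gens 5).1 (AllP.cons (HNV.gens 3).1 (AllP.cons (HNV.gens 5).1 (AllP.cons (HNV.gens 0).1 (AllP.cons (HNV.gens 3).1 (AllP.cons (HNV.gens 5).1 (AllP.cons (HNV.gens 2).1 (AllP.cons (HNV.gens 2).1 (AllP.cons (HNV.gens 2).1 (AllP.cons (HNV.gens 0).1 (AllP.cons (HNV.gens 2).1 (AllP.cons (HNV.gens 1).1 (AllP.cons (HNV.gens 3).1 (AllP.cons (HNV.gens 1).1 (AllP.cons (HNV.gens 3).1 (AllP.cons (HNV.gens 1).1 (AllP.nil)))))))))))))))))))))) pr20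
theorem hM24 : HNV.X.M m22 := MRep.M.of_prod (L := [HNV.iy, HNV.iy, HNV.gz, HNV.gx, HNV.gy, HNV.gx, HNV.gy, HNV.gy, HNV.gz, HNV.gy, HNV.gz, HNV.gx, HNV.gy, HNV.gy, HNV.gx, HNV.gz, HNV.gy]) (AllP.cons (HNV.gens 3).1 (AllP.cons (HNV.gens 3).1 (AllP.cons (HNV.gens 5).1 (AllP.cons (HNV.gens 0).1 (AllP.cons (HNV.gens 2).1 (AllP.cons (HNV.gens 0).1 (AllP.cons (HNV.gens 2).1 (AllP.cons (HNV.gens 2).1 (AllP.cons (HNV.gens 5).1 (AllP.cons (HNV.gens 2).1 (AllP.cons (HNV.gens 5).1 (AllP.cons (HNV.gens 0).1 (AllP.cons (HNV.gens 2).1 (AllP.cons (HNV.gens 2).1 (AllP.cons (HNV.gens 0).1 (AllP.cons (HNV.gens 5).1 (AllP.cons (HNV.gens 2).1 (AllP.nil)))))))))))))))))) pr23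
theorem hM27 : HNV.X.M m25 := MRep.M.of_prod (L := [HNV.iy, HNV.ix, HNV.gy, HNV.gy, HNV.gz, HNV.gy, HNV.gz, HNV.iy, HNV.gz, HNV.gx, HNV.iy, HNV.iy, HNV.gx, HNV.iy, HNV.ix, HNV.gy, HNV.gy, HNV.ix, HNV.iy, HNV.ix, HNV.iy, HNV.iy, HNV.iy]) (AllP.cons (HNV.gens 3).1 (AllP.cons (HNV.gens 1).1 (AllP.cons (HNV.gens 2).1 (AllP.cons (HNV.gens 2).1 (AllP.cons (HNV.gens 5).1 (AllP.cons (HNV.gens 2).1 (AllP.cons (HNV.gens 5).1 (AllP.cons (HNV.gens 3).1 (AllP.cons (HNV.gens 5).1 (AllP.cons (HNV.gens 0).1 (AllP.cons (HNV.gens 3).1 (AllP.cons (HNV.gens 3).1 (AllP.cons (HNV.gens 0).1 (AllP.cons (HNV.gens 3).1 (AllP.cons (HNV.gens 1).1 (AllP.cons (HNV.gens 2).1 (AllP.cons (HNV.gens 2).1 (AllP.cons (HNV.gens 1).1 (AllP.cons (HNV.gens 3).1 (AllP.cons (HNV.gens 1).1 (AllP.cons (HNV.gens 3).1 (AllP.cons (HNV.gens 3).1 (AllP.cons (HNV.gens 3).1 (AllP.nil))))))))))))))))))))))))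 pr26
theorem hM30 : HNV.X.M m28 := (MRep.M.inv hM15 iv29).1
theorem hM33 : HNV.X.M m31 := MRep.M.of_prod (L := [m25, m28, m19, m25, m13, m19]) (AllP.cons hM27 (AllP.cons hM30 (AllP.cons hM21 (AllP.cons hM27 (AllP.cons hM15 (AllP.cons hM21 (AllP.nil))))))) pr32
theorem hM36 : HNV.X.M m34 := (MRep.M.inv hM27 iv35).1
theorem hM39 : HNV.X.M m37 := MRep.M.of_prod (L := [m16, m28, m16, m13, m16, m19, m34, m19]) (AllP.cons hM18 (AllP.cons hM30 (AllP.cons hM18 (AllP.cons hM15 (AllP.cons hM18 (AllP.cons hM21 (AllP.cons hM36 (AllP.cons hM21 (AllP.nil))))))))) pr38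
theorem hM42 : HNV.X.M m40 := (MRep.M.inv hM24 iv41).1
theorem hM45 : HNV.X.M m43 := MRep.M.of_prod (L := [m19, m13, m16, m34, m13, m40, m34, m40]) (AllP.cons hM21 (AllP.cons hM15 (AllP.cons hM18 (AllP.cons hM36 (AllP.cons hM15 (AllP.cons hM42 (AllP.cons hM36 (AllP.cons hM42 (AllP.nil))))))))) pr44
theorem hM48 : HNV.X.M m46 := (MRep.M.inv hM21 iv47).1
theorem hM51 : HNV.X.M m49 := (MRep.M.inv hM18 iv50).1
theorem hM54 : HNV.X.M m52 := MRep.M.of_prod (L := [m46, m22, m46, m28, m16, m46, m49, m19]) (AllP.cons hM48 (AllP.cons hM24 (AllP.cons hM48 (AllP.cons hM30 (AllP.cons hM18 (AllP.cons hM48 (AllP.cons hM51 (AllP.cons hM21 (AllP.nil))))))))) pr53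
theorem hM57 : HNV.X.M m55 := MRep.M.of_prod (L := [m31, m43, m43, m31, m43, m43]) (AllP.cons hM33 (AllP.cons hM45 (AllP.cons hM45 (AllP.cons hM33 (AllP.cons hM45 (AllP.cons hM45 (AllP.nil))))))) pr56
theorem hM60 : HNV.X.M m58 := (MRep.M.inv hM45 iv59).1
theorem hM63 : HNV.X.M m61 := (MRep.M.inv hM39 iv62).1
theorem hM66 : HNV.X.M m64 := MRep.M.of_prod (L := [m37, m37, m58, m61, m61, m43]) (AllP.cons hM39 (AllP.cons hM39 (AllP.cons hM60 (AllP.cons hM63 (AllP.cons hM63 (AllP.cons hM45 (AllP.nil))))))) pr65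
theorem hM69 : HNV.X.M m67 := MRep.M.of_prod (L := [m52, m52]) (AllP.cons hM54 (AllP.cons hM54 (AllP.nil))) pr68
theorem hM72 : HNV.X.M m70 := (MRep.M.inv hM33 iv71).1
theorem hM75 : HNV.X.M m73 := MRep.M.of_prod (L := [m31, m43, m52, m70, m43, m52]) (AllP.cons hM33 (AllP.cons hM45 (AllP.cons hM54 (AllP.cons hM72 (AllP.cons hM45 (AllP.cons hM54 (AllP.nil))))))) pr74
theorem hM78 : HNV.X.M m76 := (MRep.M.inv hM54 iv77).1
theorem hM81 : HNV.X.M m79 := MRep.M.of_prod (L := [m31, m52, m31, m76]) (AllP.cons hM33 (AllP.cons hM54 (AllP.cons hM33 (AllP.cons hM78 (AllP.nil))))) pr80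
theorem hM84 : HNV.X.M m82 := MRep.M.of_prod (L := [m43, m52, m43, m52]) (AllP.cons hM45 (AllP.cons hM54 (AllP.cons hM45 (AllP.cons hM54 (AllP.nil))))) pr83
theorem hM87 : HNV.X.M m85 := MRep.M.of_prod (L := [m43, m76, m43]) (AllP.cons hM45 (AllP.cons hM78 (AllP.cons hM45 (AllP.nil)))) pr86
theorem hM90 : HNV.X.M m88 := MRep.M.of_prod (L := [m70, m52, m52]) (AllP.cons hM72 (AllP.cons hM54 (AllP.cons hM54 (AllP.nil)))) pr89
theorem hM93 : HNV.X.M m91 := MRep.M.of_prod (L := [m61, m61]) (AllP.cons hM63 (AllP.cons hM63 (AllP.nil))) pr92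
theorem hM96 : HNV.X.M m94 := MRep.M.of_prod (L := [m37, m52, m61]) (AllP.cons hM39 (AllP.cons hM54 (AllP.cons hM63 (AllP.nil)))) pr95
theorem hM99 : HNV.X.M m97 := MRep.M.of_prod (L := [m43, m43]) (AllP.cons hM45 (AllP.cons hM45 (AllP.nil))) pr98
theorem gT2 : HNV.X.Gens T2 (atm 14 (HNV.X.gen T2)) :=
  MRep.Gens.of_M T2ok (MRep.allM (L := [m1, m55, m64, m67, m73, m79, m82, m85, m88, m91, m94, m97, m37, m43]) (AllP.cons hM3 (AllP.cons hM57 (AllP.cons hM66 (AllP.cons hM69 (AllP.cons hM75 (AllP.cons hM81 (AllP.cons hM84 (AllP.cons hM87 (AllP.cons hM90 (AllP.cons hM93 (AllP.cons hM96 (AllP.cons hM99 (AllP.cons hM39 (AllP.cons hM45 (AllP.nil))))))))))))))) rfl)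
theorem T2pc1 : PC (HNV.X.gen T2) 1 2 :=
  gT2.pc (p := 2) (PC.zero _) (by decide) (by norm_num)
    (show AllP (fun j => ∃ w, PA.pcC HNV.A T2 0 j w = true) [] from AllP.nil) pp103
    (gT2.notB (by decide) (PC.zero _) pb105 (show AllP (fun j => PA.pcB HNV.A T2 m104 HNV.A_one j = true) [] from AllP.nil))
theorem T2pc2 : PC (HNV.X.gen T2) 2 4 :=
  gT2.pc (p := 2) T2pc1 (by decide) (by norm_num)
    (show AllP (fun j => ∃ w, PA.pcC HNV.A T2 1 j w = true) [0] from AllP.cons ⟨_, pc106⟩ (AllP.nil)) pp107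
    (gT2.notB (by decide) T2pc1 pb109 (show AllP (fun j => PA.pcB HNV.A T2 m108 HNV.A_one j = true) [0] from AllP.cons pb110 (AllP.nil)))
theorem T2pc3 : PC (HNV.X.gen T2) 3 8 :=
  gT2.pc (p := 2) T2pc2 (by decide) (by norm_num)
    (show AllP (fun j => ∃ w, PA.pcC HNV.A T2 2 j w = true) [0, 1] from AllP.cons ⟨_, pc111⟩ (AllP.cons ⟨_, pc112⟩ (AllP.nil))) pp113
    (gT2.notB (by decide) T2pc2 pb115 (show AllP (fun j => PA.pcB HNV.A T2 m114 HNV.A_one j = true) [0, 1] from AllP.cons pb116 (AllP.cons pb117 (AllP.nil))))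
theorem T2pc4 : PC (HNV.X.gen T2) 4 16 :=
  gT2.pc (p := 2) T2pc3 (by decide) (by norm_num)
    (show AllP (fun j => ∃ w, PA.pcC HNV.A T2 3 j w = true) [0, 1, 2] from AllP.cons ⟨_, pc118⟩ (AllP.cons ⟨_, pc119⟩ (AllP.cons ⟨_, pc120⟩ (AllP.nil)))) pp121
    (gT2.notB (by decide) T2pc3 pb123 (show AllP (fun j => PA.pcB HNV.A T2 m122 HNV.A_one j = true) [0, 1, 2] from AllP.cons pb124 (AllP.cons pb125 (AllP.cons pb126 (AllP.nil)))))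
theorem T2pc5 : PC (HNV.X.gen T2) 5 32 :=
  gT2.pc (p := 2) T2pc4 (by decide) (by norm_num)
    (show AllP (fun j => ∃ w, PA.pcC HNV.A T2 4 j w = true) [0, 1, 2, 3] from AllP.cons ⟨_, pc127⟩ (AllP.cons ⟨_, pc128⟩ (AllP.cons ⟨_, pc129⟩ (AllP.cons ⟨_, pc130⟩ (AllP.nil))))) pp131
    (gT2.notB (by decide) T2pc4 pb133 (show AllP (fun j => PA.pcB HNV.A T2 m132 HNV.A_one j = true) [0, 1, 2, 3] from AllP.cons pb134 (AllP.cons pb135 (AllP.cons pb136 (AllP.cons pb137 (AllP.nil))))))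
theorem T2pc6 : PC (HNV.X.gen T2) 6 64 :=
  gT2.pc (p := 2) T2pc5 (by decide) (by norm_num)
    (show AllP (fun j => ∃ w, PA.pcC HNV.A T2 5 j w = true) [0, 1, 2, 3, 4] from AllP.cons ⟨_, pc138⟩ (AllP.cons ⟨_, pc139⟩ (AllP.cons ⟨_, pc140⟩ (AllP.cons ⟨_, pc141⟩ (AllP.cons ⟨_, pc142⟩ (AllP.nil)))))) pp143
    (gT2.notB (by decide) T2pc5 pb145 (show AllP (fun j => PA.pcB HNV.A T2 m144 HNV.A_one j = true) [0, 1, 2, 3, 4] from AllP.cons pb146 (AllP.cons pb147 (AllP.cons pb148 (AllP.cons pb149 (AllP.cons pb150 (AllP.nil)))))))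
theorem T2pc7 : PC (HNV.X.gen T2) 7 128 :=
  gT2.pc (p := 2) T2pc6 (by decide) (by norm_num)
    (show AllP (fun j => ∃ w, PA.pcC HNV.A T2 6 j w = true) [0, 1, 2, 3, 4, 5] from AllP.cons ⟨_, pc151⟩ (AllP.cons ⟨_, pc152⟩ (AllP.cons ⟨_, pc153⟩ (AllP.cons ⟨_, pc154⟩ (AllP.cons ⟨_, pc155⟩ (AllP.cons ⟨_, pc156⟩ (AllP.nil))))))) pp157
    (gT2.notB (by decide) T2pc6 pb159 (show AllP (fun j => PA.pcB HNV.A T2 m158 HNV.A_one j = true) [0, 1, 2, 3, 4, 5] from AllP.cons pb160 (AllP.cons pb161 (AllP.cons pb162 (AllP.cons pb163 (AllP.cons pb164 (AllP.cons pb165 (AllP.nil))))))))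
theorem T2pc8 : PC (HNV.X.gen T2) 8 256 :=
  gT2.pc (p := 2) T2pc7 (by decide) (by norm_num)
    (show AllP (fun j => ∃ w, PA.pcC HNV.A T2 7 j w = true) [0, 1, 2, 3, 4, 5, 6] from AllP.cons ⟨_, pc166⟩ (AllP.cons ⟨_, pc167⟩ (AllP.cons ⟨_, pc168⟩ (AllP.cons ⟨_, pc169⟩ (AllP.cons ⟨_, pc170⟩ (AllP.cons ⟨_, pc171⟩ (AllP.cons ⟨_, pc172⟩ (AllP.nil)))))))) pp173
    (gT2.notB (by decide) T2pc7 pb175 (show AllP (fun j => PA.pcB HNV.A T2 m174 HNV.A_one j = true) [0, 1, 2, 3, 4, 5, 6] from AllP.cons pb176 (AllP.cons pb177 (AllP.cons pb178 (AllP.cons pb179 (AllP.cons pb180 (AllP.cons pb181 (AllP.cons pb182 (AllP.nil)))))))))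
theorem T2pc9 : PC (HNV.X.gen T2) 9 512 :=
  gT2.pc (p := 2) T2pc8 (by decide) (by norm_num)
    (show AllP (fun j => ∃ w, PA.pcC HNV.A T2 8 j w = true) [0, 1, 2, 3, 4, 5, 6, 7] from AllP.cons ⟨_, pc183⟩ (AllP.cons ⟨_, pc184⟩ (AllP.cons ⟨_, pc185⟩ (AllP.cons ⟨_, pc186⟩ (AllP.cons ⟨_, pc187⟩ (AllP.cons ⟨_, pc188⟩ (AllP.cons ⟨_, pc189⟩ (AllP.cons ⟨_, pc190⟩ (AllP.nil))))))))) pp191
    (gT2.notB (by decide) T2pc8 pb193 (show AllP (fun j => PA.pcB HNV.A T2 m192 HNV.A_one j = true) [0, 1, 2, 3, 4, 5, 6, 7] from AllP.cons pb194 (AllP.cons pb195 (AllP.cons pb196 (AllP.cons pb197 (AllP.cons pb198 (AllP.cons pb199 (AllP.cons pb200 (AllP.cons pb201 (AllP.nil))))))))))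
theorem T2pc10 : PC (HNV.X.gen T2) 10 1024 :=
  gT2.pc (p := 2) T2pc9 (by decide) (by norm_num)
    (show AllP (fun j => ∃ w, PA.pcC HNV.A T2 9 j w = true) [0, 1, 2, 3, 4, 5, 6, 7, 8] from AllP.cons ⟨_, pc202⟩ (AllP.cons ⟨_, pc203⟩ (AllP.cons ⟨_, pc204⟩ (AllP.cons ⟨_, pc205⟩ (AllP.cons ⟨_, pc206⟩ (AllP.cons ⟨_, pc207⟩ (AllP.cons ⟨_, pc208⟩ (AllP.cons ⟨_, pc209⟩ (AllP.cons ⟨_, pc210⟩ (AllP.nil)))))))))) pp211
    (gT2.notB (by decide) T2pc9 pb213 (show AllP (fun j => PA.pcB HNV.A T2 m212 HNV.A_one j = true) [0, 1, 2, 3, 4, 5, 6, 7, 8] from AllP.cons pb214 (AllP.cons pb215 (AllP.cons pb216 (AllP.cons pb217 (AllP.cons pb218 (AllP.cons pb219 (AllP.cons pb220 (AllP.cons pb221 (AllP.cons pb222 (AllP.nil)))))))))))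
theorem T2pc11 : PC (HNV.X.gen T2) 11 2048 :=
  gT2.pc (p := 2) T2pc10 (by decide) (by norm_num)
    (show AllP (fun j => ∃ w, PA.pcC HNV.A T2 10 j w = true) [0, 1, 2, 3, 4, 5, 6, 7, 8, 9] from AllP.cons ⟨_, pc223⟩ (AllP.cons ⟨_, pc224⟩ (AllP.cons ⟨_, pc225⟩ (AllP.cons ⟨_, pc226⟩ (AllP.cons ⟨_, pc227⟩ (AllP.cons ⟨_, pc228⟩ (AllP.cons ⟨_, pc229⟩ (AllP.cons ⟨_, pc230⟩ (AllP.cons ⟨_, pc231⟩ (AllP.cons ⟨_, pc232⟩ (AllP.nil))))))))))) pp233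
    (gT2.notB (by decide) T2pc10 pb235 (show AllP (fun j => PA.pcB HNV.A T2 m234 HNV.A_one j = true) [0, 1, 2, 3, 4, 5, 6, 7, 8, 9] from AllP.cons pb236 (AllP.cons pb237 (AllP.cons pb238 (AllP.cons pb239 (AllP.cons pb240 (AllP.cons pb241 (AllP.cons pb242 (AllP.cons pb243 (AllP.cons pb244 (AllP.cons pb245 (AllP.nil))))))))))))
theorem T2pc12 : PC (HNV.X.gen T2) 12 4096 :=
  gT2.pc (p := 2) T2pc11 (by decide) (by norm_num)
    (show AllP (fun j => ∃ w, PA.pcC HNV.A T2 11 j w = true) [0, 1, 2, 3, 4, 5, 6, 7, 8, 9, 10] from AllP.cons ⟨_, pc246⟩ (AllP.cons ⟨_, pc247⟩ (AllP.cons ⟨_, pc248⟩ (AllP.cons ⟨_, pc249⟩ (AllP.cons ⟨_, pc250⟩ (AllP.cons ⟨_, pc251⟩ (AllP.cons ⟨_, pc252⟩ (AllP.cons ⟨_, pc253⟩ (AllP.cons ⟨_, pc254⟩ (AllP.cons ⟨_, pc255⟩ (AllP.cons ⟨_, pc256⟩ (AllP.nil)))))))))))) pp257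
    (gT2.notB (by decide) T2pc11 pb259 (show AllP (fun j => PA.pcB HNV.A T2 m258 HNV.A_one j = true) [0, 1, 2, 3, 4, 5, 6, 7, 8, 9, 10] from AllP.cons pb260 (AllP.cons pb261 (AllP.cons pb262 (AllP.cons pb263 (AllP.cons pb264 (AllP.cons pb265 (AllP.cons pb266 (AllP.cons pb267 (AllP.cons pb268 (AllP.cons pb269 (AllP.cons pb270 (AllP.nil)))))))))))))
theorem T2pc13 : PC (HNV.X.gen T2) 13 8192 :=
  gT2.pc (p := 2) T2pc12 (by decide) (by norm_num)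
    (show AllP (fun j => ∃ w, PA.pcC HNV.A T2 12 j w = true) [0, 1, 2, 3, 4, 5, 6, 7, 8, 9, 10, 11] from AllP.cons ⟨_, pc271⟩ (AllP.cons ⟨_, pc272⟩ (AllP.cons ⟨_, pc273⟩ (AllP.cons ⟨_, pc274⟩ (AllP.cons ⟨_, pc275⟩ (AllP.cons ⟨_, pc276⟩ (AllP.cons ⟨_, pc277⟩ (AllP.cons ⟨_, pc278⟩ (AllP.cons ⟨_, pc279⟩ (AllP.cons ⟨_, pc280⟩ (AllP.cons ⟨_, pc281⟩ (AllP.cons ⟨_, pc282⟩ (AllP.nil))))))))))))) pp283
    (gT2.notB (by decide) T2pc12 pb285 (show AllP (fun j => PA.pcB HNV.A T2 m284 HNV.A_one j = true) [0, 1, 2, 3, 4, 5, 6, 7, 8, 9, 10, 11] from AllP.cons pb286 (AllP.cons pb287 (AllP.cons pb288 (AllP.cons pb289 (AllP.cons pb290 (AllP.cons pb291 (AllP.cons pb292 (AllP.cons pb293 (AllP.cons pb294 (AllP.cons pb295 (AllP.cons pb296 (AllP.cons pb297 (AllP.nil))))))))))))))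
theorem T2pc14 : PC (HNV.X.gen T2) 14 16384 :=
  gT2.pc (p := 2) T2pc13 (by decide) (by norm_num)
    (show AllP (fun j => ∃ w, PA.pcC HNV.A T2 13 j w = true) [0, 1, 2, 3, 4, 5, 6, 7, 8, 9, 10, 11, 12] from AllP.cons ⟨_, pc298⟩ (AllP.cons ⟨_, pc299⟩ (AllP.cons ⟨_, pc300⟩ (AllP.cons ⟨_, pc301⟩ (AllP.cons ⟨_, pc302⟩ (AllP.cons ⟨_, pc303⟩ (AllP.cons ⟨_, pc304⟩ (AllP.cons ⟨_, pc305⟩ (AllP.cons ⟨_, pc306⟩ (AllP.cons ⟨_, pc307⟩ (AllP.cons ⟨_, pc308⟩ (AllP.cons ⟨_, pc309⟩ (AllP.cons ⟨_, pc310⟩ (AllP.nil)))))))))))))) pp311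
    (gT2.notB (by decide) T2pc13 pb313 (show AllP (fun j => PA.pcB HNV.A T2 m312 HNV.A_one j = true) [0, 1, 2, 3, 4, 5, 6, 7, 8, 9, 10, 11, 12] from AllP.cons pb314 (AllP.cons pb315 (AllP.cons pb316 (AllP.cons pb317 (AllP.cons pb318 (AllP.cons pb319 (AllP.cons pb320 (AllP.cons pb321 (AllP.cons pb322 (AllP.cons pb323 (AllP.cons pb324 (AllP.cons pb325 (AllP.cons pb326 (AllP.nil)))))))))))))))
theorem hM329 : HNV.X.M m327 := MRep.M.of_prod (L := [HNV.gy, HNV.gx, HNV.iy, HNV.iy, HNV.gx, HNV.gy, HNV.gy, HNV.gx, HNV.gy, HNV.gx, HNV.gy, HNV.gx, HNV.gy, HNV.gy, HNV.gx, HNV.iy, HNV.ix, HNV.iy, HNV.iy, HNV.ix]) (AllP.cons (HNV.gens 2).1 (AllP.cons (HNV.gens 0).1 (AllP.cons (HNV.gens 3).1 (AllP.cons (HNV.gens 3).1 (AllP.cons (HNV.gens 0).1 (AllP.cons (HNV.gens 2).1 (AllP.cons (HNV.gens 2).1 (AllP.cons (HNV.gens 0).1 (AllP.cons (HNV.gens 2).1 (AllP.cons (HNV.gens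 0).1 (AllP.cons (HNV.gens 2).1 (AllP.cons (HNV.gens 0).1 (AllP.cons (HNV.gens 2).1 (AllP.cons (HNV.gens 2).1 (AllP.cons (HNV.gens 0).1 (AllP.cons (HNV.gens 3).1 (AllP.cons (HNV.gens 1).1 (AllP.cons (HNV.gens 3).1 (AllP.cons (HNV.gens 3).1 (AllP.cons (HNV.gens 1).1 (AllP.nil))))))))))))))))))))) pr328
theorem hM332 : HNV.X.M m330 := MRep.M.of_prod (L := [HNV.ix, HNV.iy, HNV.gx, HNV.iy, HNV.gx, HNV.iy, HNV.gx, HNV.gy, HNV.gy, HNV.gx, HNV.gy, HNV.gx, HNV.gy, HNV.gx, HNV.iy, HNV.iy, HNV.ix]) (AllP.cons (HNV.gens 1).1 (AllP.cons (HNV.gens 3).1 (AllP.cons (HNV.gens 0).1 (AllP.cons (HNV.gens 3).1 (AllP.cons (HNV.gens 0).1 (AllP.cons (HNV.gens 3).1 (AllP.cons (HNV.gens 0).1 (AllP.cons (HNV.gens 2).1 (AllP.cons (HNV.gens 2).1 (AllP.cons (HNV.gens 0).1 (AllP.cons (HNV.gens 2).1 (AllP.cons (HNV.gens 0).1 (AllP.cons (HNV.gens 2).1 (AllP.cons (HNV.gens 0).1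 (AllP.cons (HNV.gens 3).1 (AllP.cons (HNV.gens 3).1 (AllP.cons (HNV.gens 1).1 (AllP.nil)))))))))))))))))) pr331
theorem hM335 : HNV.X.M m333 := MRep.M.of_prod (L := [m19, m22, m46, m13, m16, m22, m13, m19, m16]) (AllP.cons hM21 (AllP.cons hM24 (AllP.cons hM48 (AllP.cons hM15 (AllP.cons hM18 (AllP.cons hM24 (AllP.cons hM15 (AllP.cons hM21 (AllP.cons hM18 (AllP.nil)))))))))) pr334
theorem hM338 : HNV.X.M m336 := (MRep.M.inv hM329 iv337).1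
theorem hM341 : HNV.X.M m339 := (MRep.M.inv hM332 iv340).1
theorem hM344 : HNV.X.M m342 := MRep.M.of_prod (L := [m327, m330, m336, m339]) (AllP.cons hM329 (AllP.cons hM332 (AllP.cons hM338 (AllP.cons hM341 (AllP.nil))))) pr343
theorem hM347 : HNV.X.M m345 := (MRep.M.inv hM335 iv346).1
theorem hM350 : HNV.X.M m348 := MRep.M.of_prod (L := [m327, HNV.it, m345, m339, m333]) (AllP.cons hM329 (AllP.cons (HNV.gens 7).1 (AllP.cons hM347 (AllP.cons hM341 (AllP.cons hM335 (AllP.nil)))))) pr349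
theorem hM353 : HNV.X.M m351 := MRep.M.of_prod (L := [m336, m339, m336, HNV.gt]) (AllP.cons hM338 (AllP.cons hM341 (AllP.cons hM338 (AllP.cons (HNV.gens 6).1 (AllP.nil))))) pr352
theorem hM356 : HNV.X.M m354 := MRep.M.of_prod (L := [m327, HNV.gt]) (AllP.cons hM329 (AllP.cons (HNV.gens 6).1 (AllP.nil))) pr355
theorem gT5 : HNV.X.Gens T5 (atm 6 (HNV.X.gen T5)) :=
  MRep.Gens.of_M T5ok (MRep.allM (L := [m342, m348, m351, m354, m333, m327]) (AllP.cons hM344 (AllP.cons hM350 (AllP.cons hM353 (AllP.cons hM356 (AllP.cons hM335 (AllP.cons hM329 (AllP.nil))))))) rfl)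
theorem T5pc1 : PC (HNV.X.gen T5) 1 5 :=
  gT5.pc (p := 5) (PC.zero _) (by decide) (by norm_num)
    (show AllP (fun j => ∃ w, PA.pcC HNV.A T5 0 j w = true) [] from AllP.nil) pp361
    (gT5.notB (by decide) (PC.zero _) pb363 (show AllP (fun j => PA.pcB HNV.A T5 m362 HNV.A_one j = true) [] from AllP.nil))
theorem T5pc2 : PC (HNV.X.gen T5) 2 25 :=
  gT5.pc (p := 5) T5pc1 (by decide) (by norm_num)
    (show AllP (fun j => ∃ w, PA.pcC HNV.A T5 1 j w = true) [0] from AllP.cons ⟨_, pc364⟩ (AllP.nil)) pp365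
    (gT5.notB (by decide) T5pc1 pb367 (show AllP (fun j => PA.pcB HNV.A T5 m366 HNV.A_one j = true) [0] from AllP.cons pb368 (AllP.nil)))
theorem T5pc3 : PC (HNV.X.gen T5) 3 125 :=
  gT5.pc (p := 5) T5pc2 (by decide) (by norm_num)
    (show AllP (fun j => ∃ w, PA.pcC HNV.A T5 2 j w = true) [0, 1] from AllP.cons ⟨_, pc369⟩ (AllP.cons ⟨_, pc370⟩ (AllP.nil))) pp371
    (gT5.notB (by decide) T5pc2 pb373 (show AllP (fun j => PA.pcB HNV.A T5 m372 HNV.A_one j = true) [0, 1] from AllP.cons pb374 (AllP.cons pb375 (AllP.nil))))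
theorem T5pc4 : PC (HNV.X.gen T5) 4 625 :=
  gT5.pc (p := 5) T5pc3 (by decide) (by norm_num)
    (show AllP (fun j => ∃ w, PA.pcC HNV.A T5 3 j w = true) [0, 1, 2] from AllP.cons ⟨_, pc376⟩ (AllP.cons ⟨_, pc377⟩ (AllP.cons ⟨_, pc378⟩ (AllP.nil)))) pp379
    (gT5.notB (by decide) T5pc3 pb381 (show AllP (fun j => PA.pcB HNV.A T5 m380 HNV.A_one j = true) [0, 1, 2] from AllP.cons pb382 (AllP.cons pb383 (AllP.cons pb384 (AllP.nil)))))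
theorem T5pc5 : PC (HNV.X.gen T5) 5 3125 :=
  gT5.pc (p := 5) T5pc4 (by decide) (by norm_num)
    (show AllP (fun j => ∃ w, PA.pcC HNV.A T5 4 j w = true) [0, 1, 2, 3] from AllP.cons ⟨_, pc385⟩ (AllP.cons ⟨_, pc386⟩ (AllP.cons ⟨_, pc387⟩ (AllP.cons ⟨_, pc388⟩ (AllP.nil))))) pp389
    (gT5.notB (by decide) T5pc4 pb392 (show AllP (fun j => PA.pcB HNV.A T5 m390 m391 j = true) [0, 1, 2, 3] from AllP.cons pb393 (AllP.cons pb394 (AllP.cons pb395 (AllP.cons pb396 (AllP.nil))))))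
theorem T5pc6 : PC (HNV.X.gen T5) 6 15625 :=
  gT5.pc (p := 5) T5pc5 (by decide) (by norm_num)
    (show AllP (fun j => ∃ w, PA.pcC HNV.A T5 5 j w = true) [0, 1, 2, 3, 4] from AllP.cons ⟨_, pc397⟩ (AllP.cons ⟨_, pc398⟩ (AllP.cons ⟨_, pc399⟩ (AllP.cons ⟨_, pc400⟩ (AllP.cons ⟨_, pc401⟩ (AllP.nil)))))) pp402
    (gT5.notB (by decide) T5pc5 pb404 (show AllP (fun j => PA.pcB HNV.A T5 m403 HNV.A_one j = true) [0, 1, 2, 3, 4] from AllP.cons pb405 (AllP.cons pb406 (AllP.cons pb407 (AllP.cons pb408 (AllP.cons pb409 (AllP.nil)))))))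
theorem hM412 : HNV.X.M m410 := MRep.M.of_prod (L := [HNV.gz, HNV.gy, HNV.gx, HNV.iy, HNV.iy, HNV.gz, HNV.iy, HNV.iy, HNV.gx, HNV.iy, HNV.gx, HNV.gy, HNV.gx, HNV.gy, HNV.gx, HNV.iy, HNV.ix, HNV.iy, HNV.iy, HNV.gz, HNV.gy, HNV.ix, HNV.gy]) (AllP.cons (HNV.gens 5).1 (AllP.cons (HNV.gens 2).1 (AllP.cons (HNV.gens 0).1 (AllP.cons (HNV.gens 3).1 (AllP.cons (HNV.gens 3).1 (AllP.cons (HNV.gens 5).1 (AllP.cons (HNV.gens 3).1 (AllP.cons (HNV.gens 3).1 (AllP.cons (HNV.gens 0).1 (AllP.cons (HNV.gens 3).1 (AllP.cons (HNV.gens 0).1 (AllP.cons (HNV.gens 2).1 (AllP.cons (HNV.gens 0).1 (AllP.cons (HNV.gens 2).1 (AllP.cons (HNV.gens 0).1 (AllP.cons (HNV.gens 3).1 (AllP.cons (HNV.gens 1).1 (AllP.cons (HNV.gens 3).1 (AllP.cons (HNV.gens 3).1 (AllP.cons (HNV.gens 5).1 (AllP.cons (HNV.gens 2).1 (AllP.cons (HNV.gens 1).1 (AllP.cons (HNV.gens 2).1 (AllP.nil))))))))))))))))))))))))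 pr411
theorem hM415 : HNV.X.M m413 := MRep.M.of_prod (L := [HNV.gx, HNV.iy, HNV.iy, HNV.gz, HNV.gy, HNV.gy, HNV.gz, HNV.gy, HNV.gy, HNV.gz, HNV.gy, HNV.gz, HNV.iy, HNV.iy, HNV.ix, HNV.iy, HNV.ix, HNV.gz, HNV.iy]) (AllP.cons (HNV.gens 0).1 (AllP.cons (HNV.gens 3).1 (AllP.cons (HNV.gens 3).1 (AllP.cons (HNV.gens 5).1 (AllP.cons (HNV.gens 2).1 (AllP.cons (HNV.gens 2).1 (AllP.cons (HNV.gens 5).1 (AllP.cons (HNV.gens 2).1 (AllP.cons (HNV.gens 2).1 (AllP.cons (HNV.gens 5).1 (AllP.cons (HNV.gens 2).1 (AllP.cons (HNV.gens 5).1 (AllP.cons (HNV.gens 3).1 (AllP.cons (HNV.gens 3).1 (AllP.cons (HNV.gens 1).1 (AllP.cons (HNV.gens 3).1 (AllP.cons (HNV.gens 1).1 (AllP.cons (HNV.gens 5).1 (AllP.cons (HNV.gens 3).1 (AllP.nil)))))))))))))))))))) pr414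
theorem hM418 : HNV.X.M m416 := MRep.M.of_prod (L := [HNV.gx, HNV.gy, HNV.gx, HNV.gy, HNV.gy, HNV.gy, HNV.gx, HNV.gy, HNV.gy, HNV.gy, HNV.gy, HNV.gz, HNV.gy]) (AllP.cons (HNV.gens 0).1 (AllP.cons (HNV.gens 2).1 (AllP.cons (HNV.gens 0).1 (AllP.cons (HNV.gens 2).1 (AllP.cons (HNV.gens 2).1 (AllP.cons (HNV.gens 2).1 (AllP.cons (HNV.gens 0).1 (AllP.cons (HNV.gens 2).1 (AllP.cons (HNV.gens 2).1 (AllP.cons (HNV.gens 2).1 (AllP.cons (HNV.gens 2).1 (AllP.cons (HNV.gens 5).1 (AllP.cons (HNV.gens 2).1 (AllP.nil)))))))))))))) pr417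
theorem hM421 : HNV.X.M m419 := (MRep.M.inv hM415 iv420).1
theorem hM424 : HNV.X.M m422 := MRep.M.of_prod (L := [HNV.it, m410, HNV.gt, m410, m419, HNV.it, HNV.it, m413, HNV.gt]) (AllP.cons (HNV.gens 7).1 (AllP.cons hM412 (AllP.cons (HNV.gens 6).1 (AllP.cons hM412 (AllP.cons hM421 (AllP.cons (HNV.gens 7).1 (AllP.cons (HNV.gens 7).1 (AllP.cons hM415 (AllP.cons (HNV.gens 6).1 (AllP.nil)))))))))) pr423
theorem hM427 : HNV.X.M m425 := MRep.M.of_prod (L := [HNV.gt, m410, m419, HNV.it, m410, HNV.it, m419, m410, HNV.it, m419, m410, HNV.gt, m410, m419, m419, m410, m413]) (AllP.cons (HNV.gens 6).1 (AllP.cons hM412 (AllP.cons hM421 (AllP.cons (HNV.gens 7).1 (AllP.cons hM412 (AllP.cons (HNV.gens 7).1 (AllP.cons hM421 (AllP.cons hM412 (AllP.cons (HNV.gens 7).1 (AllP.cons hM421 (AllP.cons hM412 (AllP.cons (HNV.gens 6).1 (AllP.cons hM412 (AllP.cons hM421 (AllP.cons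 hM421 (AllP.cons hM412 (AllP.cons hM415 (AllP.nil)))))))))))))))))) pr426
theorem hM430 : HNV.X.M m428 := MRep.M.of_prod (L := [m413, m410, HNV.gt, HNV.gt, m413, m410, HNV.it, m410, m419, m410, m419]) (AllP.cons hM415 (AllP.cons hM412 (AllP.cons (HNV.gens 6).1 (AllP.cons (HNV.gens 6).1 (AllP.cons hM415 (AllP.cons hM412 (AllP.cons (HNV.gens 7).1 (AllP.cons hM412 (AllP.cons hM421 (AllP.cons hM412 (AllP.cons hM421 (AllP.nil)))))))))))) pr429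
theorem hM433 : HNV.X.M m431 := (MRep.M.inv hM418 iv432).1
theorem hM436 : HNV.X.M m434 := MRep.M.of_prod (L := [m16, m28, m16, m28, m25, m19, m16, m40]) (AllP.cons hM18 (AllP.cons hM30 (AllP.cons hM18 (AllP.cons hM30 (AllP.cons hM27 (AllP.cons hM21 (AllP.cons hM18 (AllP.cons hM42 (AllP.nil))))))))) pr435
theorem hM439 : HNV.X.M m437 := MRep.M.of_prod (L := [m431, m434, m416]) (AllP.cons hM433 (AllP.cons hM436 (AllP.cons hM418 (AllP.nil)))) pr438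
theorem hM442 : HNV.X.M m440 := (MRep.M.inv hM430 iv441).1
theorem hM445 : HNV.X.M m443 := (MRep.M.inv hM427 iv444).1
theorem hM448 : HNV.X.M m446 := (MRep.M.inv hM439 iv447).1
theorem hM451 : HNV.X.M m449 := MRep.M.of_prod (L := [m437, m440, m443, m446, m422]) (AllP.cons hM439 (AllP.cons hM442 (AllP.cons hM445 (AllP.cons hM448 (AllP.cons hM424 (AllP.nil)))))) pr450
theorem hM454 : HNV.X.M m452 := MRep.M.of_prod (L := [m413, m410, HNV.it, HNV.it, m419, m410, HNV.gt, m413, m413, m410, HNV.it, m413, HNV.gt, HNV.gt, m410, m419, m419]) (AllP.cons hM415 (AllP.cons hM412 (AllP.cons (HNV.gens 7).1 (AllP.cons (HNV.gens 7).1 (AllP.cons hM421 (AllP.cons hM412 (AllP.cons (HNV.gens 6).1 (AllP.cons hM415 (AllP.cons hM415 (AllP.cons hM412 (AllP.cons (HNV.gens 7).1 (AllP.cons hM415 (AllP.cons (HNV.gens 6).1 (AllP.cons (HNV.gens 6).1 (AllP.cons hM412 (AllP.cons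 hM421 (AllP.cons hM421 (AllP.nil)))))))))))))))))) pr453
theorem hM457 : HNV.X.M m455 := (MRep.M.inv hM424 iv456).1
theorem hM460 : HNV.X.M m458 := (MRep.M.inv hM451 iv459).1
theorem hM463 : HNV.X.M m461 := MRep.M.of_prod (L := [m422, m449, m455, m458]) (AllP.cons hM424 (AllP.cons hM451 (AllP.cons hM457 (AllP.cons hM460 (AllP.nil))))) pr462
theorem hM466 : HNV.X.M m464 := MRep.M.of_prod (L := [m455, m443, m422, m425]) (AllP.cons hM457 (AllP.cons hM445 (AllP.cons hM424 (AllP.cons hM427 (AllP.nil))))) pr465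
theorem gT3 : HNV.X.Gens T3 (atm 6 (HNV.X.gen T3)) :=
  MRep.Gens.of_M T3ok (MRep.allM (L := [m461, m452, m464, m422, m425, m449]) (AllP.cons hM463 (AllP.cons hM454 (AllP.cons hM466 (AllP.cons hM424 (AllP.cons hM427 (AllP.cons hM451 (AllP.nil))))))) rfl)
theorem T3pc1 : PC (HNV.X.gen T3) 1 3 :=
  gT3.pc (p := 3) (PC.zero _) (by decide) (by norm_num)
    (show AllP (fun j => ∃ w, PA.pcC HNV.A T3 0 j w = true) [] from AllP.nil) pp470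
    (gT3.notB (by decide) (PC.zero _) pb472 (show AllP (fun j => PA.pcB HNV.A T3 m471 HNV.A_one j = true) [] from AllP.nil))
theorem T3pc2 : PC (HNV.X.gen T3) 2 9 :=
  gT3.pc (p := 3) T3pc1 (by decide) (by norm_num)
    (show AllP (fun j => ∃ w, PA.pcC HNV.A T3 1 j w = true) [0] from AllP.cons ⟨_, pc473⟩ (AllP.nil)) pp474
    (gT3.notB (by decide) T3pc1 pb476 (show AllP (fun j => PA.pcB HNV.A T3 m475 HNV.A_one j = true) [0] from AllP.cons pb477 (AllP.nil)))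
theorem T3pc3 : PC (HNV.X.gen T3) 3 27 :=
  gT3.pc (p := 3) T3pc2 (by decide) (by norm_num)
    (show AllP (fun j => ∃ w, PA.pcC HNV.A T3 2 j w = true) [0, 1] from AllP.cons ⟨_, pc478⟩ (AllP.cons ⟨_, pc479⟩ (AllP.nil))) pp480
    (gT3.notB (by decide) T3pc2 pb482 (show AllP (fun j => PA.pcB HNV.A T3 m481 HNV.A_one j = true) [0, 1] from AllP.cons pb483 (AllP.cons pb484 (AllP.nil))))
theorem T3pc4 : PC (HNV.X.gen T3) 4 81 :=
  gT3.pc (p := 3) T3pc3 (by decide) (by norm_num)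
    (show AllP (fun j => ∃ w, PA.pcC HNV.A T3 3 j w = true) [0, 1, 2] from AllP.cons ⟨_, pc485⟩ (AllP.cons ⟨_, pc486⟩ (AllP.cons ⟨_, pc487⟩ (AllP.nil)))) pp488
    (gT3.notB (by decide) T3pc3 pb490 (show AllP (fun j => PA.pcB HNV.A T3 m489 HNV.A_one j = true) [0, 1, 2] from AllP.cons pb491 (AllP.cons pb492 (AllP.cons pb493 (AllP.nil)))))
theorem T3pc5 : PC (HNV.X.gen T3) 5 243 :=
  gT3.pc (p := 3) T3pc4 (by decide) (by norm_num)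
    (show AllP (fun j => ∃ w, PA.pcC HNV.A T3 4 j w = true) [0, 1, 2, 3] from AllP.cons ⟨_, pc494⟩ (AllP.cons ⟨_, pc495⟩ (AllP.cons ⟨_, pc496⟩ (AllP.cons ⟨_, pc497⟩ (AllP.nil))))) pp498
    (gT3.notB (by decide) T3pc4 pb500 (show AllP (fun j => PA.pcB HNV.A T3 m499 HNV.A_one j = true) [0, 1, 2, 3] from AllP.cons pb501 (AllP.cons pb502 (AllP.cons pb503 (AllP.cons pb504 (AllP.nil))))))
theorem T3pc6 : PC (HNV.X.gen T3) 6 729 :=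
  gT3.pc (p := 3) T3pc5 (by decide) (by norm_num)
    (show AllP (fun j => ∃ w, PA.pcC HNV.A T3 5 j w = true) [0, 1, 2, 3, 4] from AllP.cons ⟨_, pc505⟩ (AllP.cons ⟨_, pc506⟩ (AllP.cons ⟨_, pc507⟩ (AllP.cons ⟨_, pc508⟩ (AllP.cons ⟨_, pc509⟩ (AllP.nil)))))) pp510
    (gT3.notB (by decide) T3pc5 pb512 (show AllP (fun j => PA.pcB HNV.A T3 m511 HNV.A_one j = true) [0, 1, 2, 3, 4] from AllP.cons pb513 (AllP.cons pb514 (AllP.cons pb515 (AllP.cons pb516 (AllP.cons pb517 (AllP.nil)))))))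
theorem hM519 : HNV.X.M g7 := (HNV.gens.isW w518).1
theorem ord7 : orderOf (ev (atm 4 HNV.h) [2, 4, 7, 7, 3, 7, 4]) = 7 :=
  (HNV.gens.isW w518).2 ▸ (HNV.gens.isW w518).1.ord (by norm_num) o7
theorem hM521 : HNV.X.M g11 := (HNV.gens.isW w520).1
theorem ord11 : orderOf (ev (atm 4 HNV.h) [2, 0, 3, 6, 0, 3, 4]) = 11 :=
  (HNV.gens.isW w520).2 ▸ (HNV.gens.isW w520).1.ord (by norm_num) o11
theorem hM523 : HNV.X.M g19 := (HNV.gens.isW w522).1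
theorem ord19 : orderOf (ev (atm 4 HNV.h) [6, 2, 4, 2, 0, 6, 4]) = 19 :=
  (HNV.gens.isW w522).2 ▸ (HNV.gens.isW w522).1.ord (by norm_num) o19
theorem lb : 177408000 * 1539000 ∣ Nat.card HNV.H := by
  have h7 : 7 ∣ Nat.card HNV.H := ord7 ▸ orderOf_dvd_natCard _
  have h11 : 11 ∣ Nat.card HNV.H := ord11 ▸ orderOf_dvd_natCard _
  have h19 : 19 ∣ Nat.card HNV.H := ord19 ▸ orderOf_dvd_natCard _
  exact (show _ ∣ Nat.lcm (Nat.lcm (Nat.lcm (Nat.lcm (Nat.lcm _ _) _) _) _) _ by decide +kernel).trans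
    (Nat.lcm_dvd (Nat.lcm_dvd (Nat.lcm_dvd (Nat.lcm_dvd (Nat.lcm_dvd T2pc14.dvd T3pc6.dvd) T5pc6.dvd) h7) h11) h19)
theorem gen : AllP (HNC.Y HNV.pres).Gen HND.V.CL :=
  show AllP (HNC.Y HNV.pres).Gen [(0, [[0], [2], [4]], 177408000), (1, [[3, 0, 3, 0, 2, 0, 2, 2, 0, 3, 3, 0, 3, 0, 2, 2, 1, 3, 1, 3], [3, 0, 3, 3, 0, 2, 2, 0, 3, 3, 0, 3, 0, 3, 3, 1, 2, 2]], 126000), (2, [[0, 2, 0, 2, 0, 3, 0, 3, 3, 0, 2, 2, 4, 2, 0, 2, 1], [3, 3, 4, 2, 0, 2, 0, 3, 4, 3, 3, 4, 0, 3, 0, 3, 1]], 80640), (3, [[4, 2, 1, 2, 0, 3, 0, 3, 0, 2, 0, 2, 0, 2, 2, 1, 3], [4, 1, 3, 3, 0, 2, 0, 2, 4, 0, 2, 2, 4, 2, 2, 5, 2, 2]], 5040), (5, [[3, 3, 0, 3, 3, 4, 3, 4, 2, 4, 2, 0, 3, 3, 0, 3, 3, 1, 2, 2], [3, 4, 2, 4, 2, 2, 2, 0, 3, 0, 2, 0, 2, 2, 5, 3, 3, 1, 3]], 1440), (6, [[4, 3, 4, 2, 2, 4, 2, 2, 1, 2, 4, 2, 2, 4, 3], [3, 3, 0, 2, 2, 0, 3, 3, 0, 3, 3, 0, 3, 3, 0, 3, 3, 1, 2]],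 500), (7, [[3, 0, 3, 4, 3, 0, 3, 3, 0, 3, 0, 3, 0, 3], [3, 1, 3, 3, 0, 2, 2]], 240), (8, [[2, 2, 4, 2, 2, 0, 3, 3, 4, 3, 3, 4, 0, 2, 2, 1, 2, 2, 1, 3, 3, 5, 3, 3], [4, 3, 1, 2, 0, 2, 4, 2, 4, 2, 0, 2, 4, 3, 5, 3, 3, 1, 2, 2]], 640), (9, [[2, 4, 2, 4, 2, 4, 2, 2, 4, 3, 3, 4, 3, 4, 2, 5, 2, 0, 3], [1, 2, 4, 2, 0, 2, 0, 2, 4, 2, 0, 2, 2, 0, 3, 3, 5, 3, 5]], 30720)] from AllP.cons (Or.inl rfl) (AllP.cons (DCtx.Loop.gen (Or.inr ((HNC.upto HNV.pres).loop HND.V.loop1))) (AllP.cons ((HNC.hA HNV.pres).gen3 HNV.gens sw2 g2) (AllP.cons (DCtx.Loop.gen (Or.inr ((HNC.upto HNV.pres).loop HND.V.loop3))) (AllP.cons (DCtx.Loop.gen (Or.inr ((HNC.upto HNV.pres).loop HND.V.loop5))) (AllP.cons (DCtx.Loop.gen (Or.inr ((HNC.upto HNV.pres).loop HND.V.loop6))) (AllP.cons (DCtx.Loop.gen (Or.inr ((HNC.upto HNV.pres).loop HND.V.loop7))) (AllP.cons (DCtx.Loop.gen (Or.inr ((HNC.upto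 HNV.pres).loop HND.V.loop8))) (AllP.cons (DCtx.Loop.gen (Or.inr ((HNC.upto HNV.pres).loop HND.V.loop9))) (AllP.nil)))))))))
theorem hM526 : HNV.X.M m524 := MRep.M.of_prod (L := [m413, m410, HNV.gt, m413, m410, HNV.gt, HNV.gt, m410, m419, m410, m419]) (AllP.cons hM415 (AllP.cons hM412 (AllP.cons (HNV.gens 6).1 (AllP.cons hM415 (AllP.cons hM412 (AllP.cons (HNV.gens 6).1 (AllP.cons (HNV.gens 6).1 (AllP.cons hM412 (AllP.cons hM421 (AllP.cons hM412 (AllP.cons hM421 (AllP.nil)))))))))))) pr525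
theorem hM529 : HNV.X.M m527 := MRep.M.of_prod (L := [m413, m410, HNV.it, m413, m410, HNV.it, HNV.it, m410, m419, m410, m419]) (AllP.cons hM415 (AllP.cons hM412 (AllP.cons (HNV.gens 7).1 (AllP.cons hM415 (AllP.cons hM412 (AllP.cons (HNV.gens 7).1 (AllP.cons (HNV.gens 7).1 (AllP.cons hM412 (AllP.cons hM421 (AllP.cons hM412 (AllP.cons hM421 (AllP.nil)))))))))))) pr528
theorem hM532 : HNV.X.M m530 := MRep.M.of_prod (L := [m413, m410, HNV.it, HNV.it, m413, m410, HNV.gt, m410, m419, m410, m419]) (AllP.cons hM415 (AllP.cons hM412 (AllP.cons (HNV.gens 7).1 (AllP.cons (HNV.gens 7).1 (AllP.cons hM415 (AllP.cons hM412 (AllP.cons (HNV.gens 6).1 (AllP.cons hM412 (AllP.cons hM421 (AllP.cons hM412 (AllP.cons hM421 (AllP.nil)))))))))))) pr531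
theorem hM535 : HNV.X.M m533 := MRep.M.of_prod (L := [HNV.gt, m413, m410, HNV.gt, HNV.gt, m413, m410, HNV.it, m410, m419, m410, m419, HNV.it]) (AllP.cons (HNV.gens 6).1 (AllP.cons hM415 (AllP.cons hM412 (AllP.cons (HNV.gens 6).1 (AllP.cons (HNV.gens 6).1 (AllP.cons hM415 (AllP.cons hM412 (AllP.cons (HNV.gens 7).1 (AllP.cons hM412 (AllP.cons hM421 (AllP.cons hM412 (AllP.cons hM421 (AllP.cons (HNV.gens 7).1 (AllP.nil)))))))))))))) pr534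
theorem hM538 : HNV.X.M m536 := MRep.M.of_prod (L := [m410, HNV.gt, m413, m410, m413, m410, HNV.gt, m410, m419, HNV.it, HNV.it, m410, m419, HNV.it, m410]) (AllP.cons hM412 (AllP.cons (HNV.gens 6).1 (AllP.cons hM415 (AllP.cons hM412 (AllP.cons hM415 (AllP.cons hM412 (AllP.cons (HNV.gens 6).1 (AllP.cons hM412 (AllP.cons hM421 (AllP.cons (HNV.gens 7).1 (AllP.cons (HNV.gens 7).1 (AllP.cons hM412 (AllP.cons hM421 (AllP.cons (HNV.gens 7).1 (AllP.cons hM412 (AllP.nil)))))))))))))))) pr537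
theorem hM541 : HNV.X.M m539 := MRep.M.of_prod (L := [m413, HNV.gt, m410, HNV.it, m413, m410, HNV.it, HNV.it, m410, m419, m410, HNV.it, m419]) (AllP.cons hM415 (AllP.cons (HNV.gens 6).1 (AllP.cons hM412 (AllP.cons (HNV.gens 7).1 (AllP.cons hM415 (AllP.cons hM412 (AllP.cons (HNV.gens 7).1 (AllP.cons (HNV.gens 7).1 (AllP.cons hM412 (AllP.cons hM421 (AllP.cons hM412 (AllP.cons (HNV.gens 7).1 (AllP.cons hM421 (AllP.nil)))))))))))))) pr540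
theorem hM544 : HNV.X.M m542 := MRep.M.of_prod (L := [m410, m413, m413, m410, m413, m413, m410, m413, m413, m410, m413, m413]) (AllP.cons hM412 (AllP.cons hM415 (AllP.cons hM415 (AllP.cons hM412 (AllP.cons hM415 (AllP.cons hM415 (AllP.cons hM412 (AllP.cons hM415 (AllP.cons hM415 (AllP.cons hM412 (AllP.cons hM415 (AllP.cons hM415 (AllP.nil))))))))))))) pr543
theorem hM547 : HNV.X.M m545 := MRep.M.of_prod (L := [m413, m410, HNV.gt, m413, m410, HNV.gt, HNV.gt, m413, m410, HNV.it, m410, m419, m410, m419, HNV.it, m410, m419]) (AllP.cons hM415 (AllP.cons hM412 (AllP.cons (HNV.gens 6).1 (AllP.cons hM415 (AllP.cons hM412 (AllP.cons (HNV.gens 6).1 (AllP.cons (HNV.gens 6).1 (AllP.cons hM415 (AllP.cons hM412 (AllP.cons (HNV.gens 7).1 (AllP.cons hM412 (AllP.cons hM421 (AllP.cons hM412 (AllP.cons hM421 (AllP.cons (HNV.gens 7).1 (AllP.cons hM412 (AllP.cons hM421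 (AllP.nil)))))))))))))))))) pr546
theorem hM550 : HNV.X.M m548 := MRep.M.of_prod (L := [m413, m410, HNV.gt, m410, HNV.gt, HNV.gt, m413, HNV.gt, m410, HNV.gt, HNV.gt, m419, HNV.it, m410, m419, m419, HNV.it, HNV.it]) (AllP.cons hM415 (AllP.cons hM412 (AllP.cons (HNV.gens 6).1 (AllP.cons hM412 (AllP.cons (HNV.gens 6).1 (AllP.cons (HNV.gens 6).1 (AllP.cons hM415 (AllP.cons (HNV.gens 6).1 (AllP.cons hM412 (AllP.cons (HNV.gens 6).1 (AllP.cons (HNV.gens 6).1 (AllP.cons hM421 (AllP.cons (HNV.gens 7).1 (AllP.cons hM412 (AllP.cons hM421 (AllP.cons hM421 (AllP.cons (HNV.gens 7).1 (AllP.cons (HNV.gens 7).1 (AllP.nil))))))))))))))))))) pr549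
theorem gTA : HNV.X.Gens TA (atm 10 (HNV.X.gen TA)) :=
  MRep.Gens.of_M TAok (MRep.allM (L := [m524, m527, m530, m428, m533, m536, m539, m542, m545, m548]) (AllP.cons hM526 (AllP.cons hM529 (AllP.cons hM532 (AllP.cons hM430 (AllP.cons hM535 (AllP.cons hM538 (AllP.cons hM541 (AllP.cons hM544 (AllP.cons hM547 (AllP.cons hM550 (AllP.nil))))))))))) rfl)
theorem presA : Pres 10 0 An12.RL (HNV.X.gen TA) :=
  ⟨fun _ h => absurd h (Nat.not_lt_zero _), gTA.all_one (show AllP (fun w => PA.isW HNV.A TA w HNV.A.one = true) [[0, 0, 0], [2, 2, 2], [4, 4, 4], [6, 6, 6], [8, 8, 8], [10, 10, 10], [12, 12, 12], [14, 14, 14], [16, 16, 16], [18, 18, 18], [0, 2, 0, 2], [0, 4, 0, 4], [0, 6, 0, 6], [0, 8, 0, 8], [0, 10, 0, 10], [0, 12, 0, 12], [0, 14, 0, 14], [0, 16, 0, 16], [0, 18, 0, 18], [2, 4, 2, 4], [2, 6, 2, 6], [2, 8, 2, 8], [2, 10, 2, 10], [2, 12, 2, 12], [2,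 14, 2, 14], [2, 16, 2, 16], [2, 18, 2, 18], [4, 6, 4, 6], [4, 8, 4, 8], [4, 10, 4, 10], [4, 12, 4, 12], [4, 14, 4, 14], [4, 16, 4, 16], [4, 18, 4, 18], [6, 8, 6, 8], [6, 10, 6, 10], [6, 12, 6, 12], [6, 14, 6, 14], [6, 16, 6, 16], [6, 18, 6, 18], [8, 10, 8, 10], [8, 12, 8, 12], [8, 14, 8, 14], [8, 16, 8, 16], [8, 18, 8, 18], [10, 12, 10, 12], [10, 14, 10, 14], [10, 16, 10, 16], [10, 18, 10, 18], [12, 14, 12, 14], [12, 16, 12, 16], [12, 18, 12, 18], [14, 16, 14, 16], [14, 18, 14, 18], [16, 18, 16, 18]] from AllP.cons r560 (AllP.cons r561 (AllP.cons r562 (AllP.cons r563 (AllP.cons r564 (AllP.cons r565 (AllP.cons r566 (AllP.cons r567 (AllP.cons r568 (AllP.cons r569 (AllP.cons r570 (AllP.cons r571 (AllP.cons r572 (AllP.cons r573 (AllP.cons r574 (AllP.cons r575 (AllP.cons r576 (AllP.cons r577 (AllP.cons r578 (AllP.cons r579 (AllP.cons r580 (AllP.cons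 r581 (AllP.cons r582 (AllP.cons r583 (AllP.cons r584 (AllP.cons r585 (AllP.cons r586 (AllP.cons r587 (AllP.cons r588 (AllP.cons r589 (AllP.cons r590 (AllP.cons r591 (AllP.cons r592 (AllP.cons r593 (AllP.cons r594 (AllP.cons r595 (AllP.cons r596 (AllP.cons r597 (AllP.cons r598 (AllP.cons r599 (AllP.cons r600 (AllP.cons r601 (AllP.cons r602 (AllP.cons r603 (AllP.cons r604 (AllP.cons r605 (AllP.cons r606 (AllP.cons r607 (AllP.cons r608 (AllP.cons r609 (AllP.cons r610 (AllP.cons r611 (AllP.cons r612 (AllP.cons r613 (AllP.cons r614 (AllP.nil))))))))))))))))))))))))))))))))))))))))))))))))))))))))⟩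
theorem isoA : Nonempty (An12.P ≃* gsub 10 (HNV.X.gen TA)) := by
  obtain ⟨e, -⟩ := iso_of_simple An12.bound (by norm_num) An12.cert.pres presA An12.lbP An12.simpleP
    (gTA.ne_one neA)
  exact ⟨e⟩

end Cfsg.Agent.Spor.HNL
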